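import Cfsg.Agent.Lib.KnownB.Phan.Q2.Rank
import Cfsg.Agent.Lib.KnownB.Phan.Field

/-!
# A frame for three tori and three involutions in the four-dimensional unitary group
-/

set_option autoImplicit false
set_option linter.unusedSectionVars false

open Matrix CfsgLib.Classical CfsgLib.SUPres

namespace CfsgLib.Phan.Q2

theorem involution_four : ∀ f : Fin 4 → Fin 4, (∀ l, f (f l) = l) → (∃ l, f l ≠ l) → (∃ l, f l = l) →
    ∃ i j, i ≠ j ∧ f i = j ∧ ∀ l, l ≠ i → l ≠ j → f l = l := by
  decide +kernel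

theorem involution_free : ∀ f : Fin 4 → Fin 4, (∀ l, f (f l) = l) → (∀ l, f l ≠ l) →
    ∃ i k, k ≠ i ∧ k ≠ f i ∧ ∀ l, l = i ∨ l = f i ∨ l = k ∨ l = f k := by
  decide +kernel

variable {F : Type*} [Field F] [Fintype F] {σ : F →+* F}
variable (hF : Fintype.card F = 2 ^ 2) (hσ : ∀ x, σ x = x ^ 2) (hc : IsConjugation σ)
include hF hσ hc

theorem split_cube {n : ℕ} {x : Cfsg.SU n F 2} (hx : x * x * x = 1) {S : Finset (Fin n)}
    (hS : ∀ v, Supp v S → Supp (act x v) S) {v : Fin n → F} (hv : Supp v S) (hv0 : stdHerm σ n v v ≠ 0) :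
    ∃ l : F, l * l * l = 1 ∧ act x (v + (l * l) • act x v + l • act x (act x v)) =
        l • (v + (l * l) • act x v + l • act x (act x v)) ∧
      Supp (v + (l * l) • act x v + l • act x (act x v)) S ∧
      stdHerm σ n (v + (l * l) • act x v + l • act x (act x v)) (v + (l * l) • act x v + l • act x (act x v)) ≠ 0 := by
  obtain ⟨ω, hω⟩ := exists_omega hF
  obtain ⟨hω0, hω3⟩ := omega_facts hω
  have h2 := two_zero hF
  have hxxx : act x (act x (act x v)) = v := by rw [← act_mul, ← act_mul, hx, act_one]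
  set A := act x v with hA
  set B := act x A with hB
  have hAA : stdHerm σ n A A = stdHerm σ n v v := by rw [hA, su_form hσ]
  have hBB : stdHerm σ n B B = stdHerm σ n v v := by rw [hB, su_form hσ, hAA]
  have hnorm : ∀ l : F, l * l * l = 1 → stdHerm σ n (v + (l * l) • A + l • B) (v + (l * l) • A + l • B) =
      stdHerm σ n v v + l * (stdHerm σ n v B + stdHerm σ n A v + stdHerm σ n B A) +
        l * l * (stdHerm σ n v A + stdHerm σ n B v + stdHerm σ n A B) := by
    intro l hl
    have e1 : σ l = l * l := by rw [hσ, sq]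
    have e2 : σ (l * l) = l := by rw [map_mul, e1]; linear_combination l * hl
    simp only [map_add, map_smulₛₗ, LinearMap.add_apply, LinearMap.smul_apply, smul_eq_mul, map_smul, RingHom.id_apply, e1, e2, hAA, hBB]
    linear_combination (2 * stdHerm σ n v v + l * stdHerm σ n B A) * hl + stdHerm σ n v v * h2
  have heig : ∀ l : F, l * l * l = 1 → act x (v + (l * l) • A + l • B) = l • (v + (l * l) • A + l • B) := fun l hl => by
    rw [act_add, act_add, act_smul, act_smul, ← hA, ← hB, hxxx, smul_add, smul_add, smul_smul, smul_smul, ← mul_assoc, hl, one_smul]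
    abel
  have hsupp : ∀ l : F, Supp (v + (l * l) • A + l • B) S := fun l =>
    (hv.add ((hS v hv).smul _)).add ((hS _ (hS v hv)).smul _)
  have h1 : (1 : F) * 1 * 1 = 1 := by ring
  have hw2 : ω * ω * (ω * ω) * (ω * ω) = 1 := by linear_combination (ω * ω * ω + 1) * hω3
  by_contra! hall
  have z1 := hall 1 h1 (heig _ h1) (hsupp _)
  have z2 := hall ω hω3 (heig _ hω3) (hsupp _)
  have z3 := hall (ω * ω) hw2 (heig _ hw2) (hsupp _)
  rw [hnorm _ h1] at z1
  rw [hnorm _ hω3] at z2
  rw [hnorm _ hw2] at z3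
  apply hv0
  linear_combination z1 + z2 + z3 - (stdHerm σ n v B + stdHerm σ n A v + stdHerm σ n B A) * hω -
    (stdHerm σ n v A + stdHerm σ n B v + stdHerm σ n A B) * ((ω * ω - ω + 1) * hω) - stdHerm σ n v v * h2

/-- Three commuting elements of order three are diagonal in some orthonormal frame. -/
theorem exists_diag (x : Fin 3 → Cfsg.SU 4 F 2) (hx : ∀ r, x r * x r * x r = 1) (hcm : ∀ r r', x r * x r' = x r' * x r) :
    ∃ (h : Cfsg.SU 4 F 2) (s : Fin 3 → Fin 4 → F), (∀ r k, s r k * s r k * s r k = 1) ∧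
      ∀ r, (h⁻¹ * x r * h).1.1 = diagonal (s r) := by
  classical
  have step : ∀ k ≤ 3, ∃ h : Cfsg.SU 4 F 2, ∀ i : Fin 4, i.val < k → ∀ r, ∃ s : F, s * s * s = 1 ∧
      act (h⁻¹ * x r * h) (ev i) = s • ev i := by
    intro k
    induction k with
    | zero => exact fun _ => ⟨1, fun i hi => absurd hi (Nat.not_lt_zero _)⟩
    | succ k ih =>
      intro hk
      obtain ⟨h, hh⟩ := ih (by omega)
      obtain ⟨y, hy⟩ : ∃ y : Fin 3 → Cfsg.SU 4 F 2, ∀ r, y r = h⁻¹ * x r * h := ⟨_, fun _ => rfl⟩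
      simp only [← hy] at hh
      have y3 : ∀ r, y r * y r * y r = 1 := fun r => by
        rw [hy, show h⁻¹ * x r * h * (h⁻¹ * x r * h) * (h⁻¹ * x r * h) = h⁻¹ * (x r * x r * x r) * h by group, hx]; group
      have ycm : ∀ r r', y r * y r' = y r' * y r := fun r r' => by
        rw [hy, hy, show h⁻¹ * x r * h * (h⁻¹ * x r' * h) = h⁻¹ * (x r * x r') * h by group, hcm]; group
      let S : Finset (Fin 4) := Finset.univ.filter fun i => k ≤ i.val
      have hpres : ∀ r v, Supp v S → Supp (act (y r) v) S := fun r v hv i hi => by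
        have hik : i.val < k := by simpa [S] using hi
        obtain ⟨s, hs, es⟩ := hh i hik r
        have hs0 : s ≠ 0 := fun e => by rw [e, mul_zero] at hs; exact zero_ne_one hs
        have e := su_form hσ (y r) (ev i) v
        rw [es, show stdHerm σ 4 (ev i) v = v i from stdHerm_single 4 i v, hv i hi] at e
        simp at e
        rcases e with e | e
        · exact absurd e hs0
        · rwa [show stdHerm σ 4 (ev i) (act (y r) v) = act (y r) v i from stdHerm_single 4 i _] at e
      let i0 : Fin 4 := ⟨k, by omega⟩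
      let l0 : Fin 4 := ⟨k + 1, by omega⟩
      -- a joint eigenvector
      have joint : ∀ m ≤ 3, ∃ v : Fin 4 → F, Supp v S ∧ stdHerm σ 4 v v ≠ 0 ∧
          ∀ r : Fin 3, r.val < m → ∃ s : F, s * s * s = 1 ∧ act (y r) v = s • v := by
        intro m
        induction m with
        | zero =>
          exact fun _ => ⟨ev i0, supp_ev (by simp [S, i0]), by rw [herm_ev_self]; exact one_ne_zero,
            fun r hr => absurd hr (Nat.not_lt_zero _)⟩
        | succ m ihm =>
          intro hm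
          obtain ⟨v, hv, hv0, he⟩ := ihm (by omega)
          obtain ⟨l, hl, el, hlS, hl0⟩ := split_cube hF hσ hc (y3 ⟨m, by omega⟩) (hpres _) hv hv0
          refine ⟨_, hlS, hl0, fun r hr => ?_⟩
          by_cases hrm : r.val < m
          · obtain ⟨s, hs, es⟩ := he r hrm
            refine ⟨s, hs, ?_⟩
            have hc1 : ∀ w, act (y r) (act (y ⟨m, by omega⟩) w) = act (y ⟨m, by omega⟩) (act (y r) w) := fun w => by
              rw [← act_mul, ycm, act_mul]
            simp only [act_add, act_smul, hc1, es, smul_add, smul_smul]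
            simp only [mul_comm]
          · have hrm' : r = ⟨m, by omega⟩ := Fin.ext (show r.val = m by omega)
            rw [hrm']
            exact ⟨l, hl, el⟩
      obtain ⟨p, hp, hp0, hep⟩ := joint 3 le_rfl
      obtain ⟨c, hcn⟩ := hc.exists_norm_eq (herm_self_fixed hc p)
      have hc0 : c ≠ 0 := fun e => hp0 (by rw [← hcn, e, zero_mul])
      obtain ⟨g, hg, eg⟩ := fixS_to_ev hσ hc (i := i0) (l := l0) (S := S) (by simp [S, i0]) (by simp [S, l0])
        (by simp [i0, l0, Fin.ext_iff]) hp hc0 hcn.symm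
      refine ⟨h * g, fun i hi r => ?_⟩
      rw [show (h * g)⁻¹ * x r * (h * g) = g⁻¹ * (h⁻¹ * x r * h) * g by group, ← hy]
      by_cases hik : i.val < k
      · obtain ⟨s, hs, es⟩ := hh i hik r
        refine ⟨s, hs, ?_⟩
        rw [act_mul, act_mul, hg i (by simp [S]; omega), es, act_smul, inv_mem hg i (by simp [S]; omega)]
      · obtain rfl : i = i0 := Fin.ext (by simp [i0]; omega)
        obtain ⟨s, hs, es⟩ := hep r r.isLt
        refine ⟨s, hs, ?_⟩
        have eg' : act g (ev i0) = c⁻¹ • p := by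
          rw [← eg, act_smul, smul_smul, inv_mul_cancel₀ hc0, one_smul]
        rw [act_mul, act_mul, eg', act_smul, es, smul_smul, act_smul, act_inv_of eg, smul_smul]
        congr 1
        field_simp
  obtain ⟨h, hh⟩ := step 3 le_rfl
  have all : ∀ r i, ∃ s : F, s * s * s = 1 ∧ act (h⁻¹ * x r * h) (ev i) = s • ev i := fun r i => by
    by_cases hi : i.val < 3
    · exact hh i hi r
    obtain rfl : i = 3 := Fin.ext (by have := i.isLt; simp; omega)
    obtain ⟨y, hy⟩ : ∃ y, y = h⁻¹ * x r * h := ⟨_, rfl⟩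
    rw [← hy]
    have y3 : y * y * y = 1 := by
      rw [hy, show h⁻¹ * x r * h * (h⁻¹ * x r * h) * (h⁻¹ * x r * h) = h⁻¹ * (x r * x r * x r) * h by group, hx]; group
    have e : act y (ev 3) = act y (ev 3) 3 • ev 3 := by
      funext m
      by_cases hm : m = 3
      · subst hm; simp [ev]
      · obtain ⟨s, hs, es⟩ := hh m (by
          have := m.isLt
          have : m.val ≠ 3 := fun e => hm (Fin.ext e)
          omega) r
        rw [← hy] at es
        have e : act y (ev 3) m = 0 := by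
          rw [← stdHerm_single (σ := σ) 4 m (act y (ev 3))]
          show stdHerm σ 4 (ev m) _ = 0
          rw [← su_form hσ (y * y), ← act_mul, y3, act_one, act_mul, es, act_smul, es, smul_smul]
          simp only [map_smulₛₗ, LinearMap.smul_apply, smul_eq_mul]
          rw [show stdHerm σ 4 (ev m) (ev 3) = (ev 3 : Fin 4 → F) m from stdHerm_single 4 m _]
          simp [ev, hm]
        rw [e]
        simp [ev, hm]
    refine ⟨_, ?_, e⟩
    have h3 : act y (act y (act y (ev 3))) = ev 3 := by rw [← act_mul, ← act_mul, y3, act_one]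
    rw [e, act_smul, e, smul_smul, act_smul, e, smul_smul] at h3
    simpa [ev] using congrFun h3 3
  choose s hs es using all
  refine ⟨h, s, hs, fun r => ?_⟩
  ext k l
  rw [← act_col hσ, es]
  by_cases hkl : k = l
  · subst hkl; simp [ev]
  · simp [ev, hkl]

/-- A permutation of the coordinates. -/
theorem exists_perm (π : Equiv.Perm (Fin 4)) :
    ∃ g : Cfsg.SU 4 F 2, ∀ k, ∃ c : F, c ≠ 0 ∧ act g (ev k) = c • ev (π k) := by
  classical
  have h2 := two_zero hF
  let M : Matrix (Fin 4) (Fin 4) F := (1 : Matrix (Fin 4) (Fin 4) F).submatrix id π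
  have hdet : M.det = 1 := by
    rw [Matrix.det_permute', det_one, mul_one]
    rcases Int.units_eq_one_or (Equiv.Perm.sign π) with e | e
    · simp [e]
    · simp [e]; linear_combination -h2
  have hMu : (M.map σ)ᵀ * M = 1 := by
    ext a b
    rw [Matrix.mul_apply, Finset.sum_eq_single (π a)]
    · by_cases hab : a = b
      · subst hab; simp [M, Matrix.one_apply]
      · simp [M, Matrix.one_apply, hab]
    · intro k _ hk; simp [M, Matrix.one_apply, hk]
    · simp
  refine ⟨⟨⟨M, hdet⟩, (mem_SU_iff_matrix hσ _).2 hMu⟩, fun k => ⟨1, one_ne_zero, ?_⟩⟩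
  funext a
  rw [act_col hσ]
  simp [M, ev, Matrix.one_apply, Pi.single_apply]

/-- The frame: three tori with their inverting involutions. -/
theorem frame (ta tb tc sa sb sc : Cfsg.SU 4 F 2)
    (ha : ta * ta * ta = 1) (hb : tb * tb * tb = 1) (hc3 : tc * tc * tc = 1)
    (nea : ta ≠ 1) (neb : tb ≠ 1) (nec : tc ≠ 1)
    (cab : ta * tb = tb * ta) (cbc : tb * tc = tc * tb) (cac : ta * tc = tc * ta)
    (sa2 : sa * sa = 1) (sb2 : sb * sb = 1) (sc2 : sc * sc = 1)
    (aa : sa * ta * sa = ta * ta) (ab : sa * tb * sa = ta * tb) (ac : sa * tc = tc * sa)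
    (ba : sb * ta * sb = ta * tb) (bb : sb * tb * sb = tb * tb) (bc : sb * tc * sb = tb * tc)
    (ca : sc * ta = ta * sc) (cb : sc * tb * sc = tb * tc) (cc : sc * tc * sc = tc * tc) :
    ∃ h : Cfsg.SU 4 F 2,
      (h⁻¹ * ta * h ∈ fixS F 2 ({0, 1} : Finset (Fin 4)) ∧ h⁻¹ * sa * h ∈ fixS F 2 ({0, 1} : Finset (Fin 4))) ∧
      (h⁻¹ * tb * h ∈ fixS F 2 ({1, 2} : Finset (Fin 4)) ∧ h⁻¹ * sb * h ∈ fixS F 2 ({1, 2} : Finset (Fin 4))) ∧
      (h⁻¹ * tc * h ∈ fixS F 2 ({2, 3} : Finset (Fin 4)) ∧ h⁻¹ * sc * h ∈ fixS F 2 ({2, 3} : Finset (Fin 4))) := by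
  classical
  have h2 := two_zero hF
  -- independence
  have three : ∀ (x : Cfsg.SU 4 F 2), x ≠ 1 → x * x * x = 1 → ∀ k, x ^ k = 1 → k % 3 = 0 := fun x hx hx3 k hk => by
    have e : x ^ (k % 3) = 1 := by
      have : x ^ 3 = 1 := by rw [pow_succ, pow_two, hx3]
      rwa [← Nat.div_add_mod k 3, pow_add, pow_mul, this, one_pow, one_mul] at hk
    by_contra hne
    rcases (show k % 3 = 1 ∨ k % 3 = 2 by omega) with h | h <;> rw [h] at e
    · exact hx (by rwa [pow_one] at e)
    · refine hx ?_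
      rw [← hx3, ← pow_two, e, one_mul]
  have indep : ∀ m n p, ta ^ m * tb ^ n * tc ^ p = 1 → m % 3 = 0 ∧ n % 3 = 0 ∧ p % 3 = 0 := by
    intro m n p hR
    have conj : ∀ (s : Cfsg.SU 4 F 2), s * s = 1 → ∀ x k, s * x ^ k * s = (s * x * s) ^ k := fun s hs x k => by
      have : s⁻¹ = s := inv_eq_of_mul_eq_one_right hs
      have h := conj_pow (i := k) (a := s) (b := x)
      rw [this] at h
      exact h.symm
    have dist : ∀ (s : Cfsg.SU 4 F 2), s * s = 1 →
        (s * ta * s) ^ m * (s * tb * s) ^ n * (s * tc * s) ^ p = 1 := fun s hs => by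
      rw [← conj s hs, ← conj s hs, ← conj s hs]
      calc s * ta ^ m * s * (s * tb ^ n * s) * (s * tc ^ p * s)
          = s * ta ^ m * (s * s) * tb ^ n * (s * s) * tc ^ p * s := by simp only [mul_assoc]
        _ = s * (ta ^ m * tb ^ n * tc ^ p) * s := by rw [hs]; simp only [mul_assoc, one_mul, mul_one]
        _ = 1 := by rw [hR, mul_one, hs]
    have Cab : Commute ta tb := cab
    have Cbc : Commute tb tc := cbc
    have Cac : Commute ta tc := cac
    have h1 : ta ^ (m + n) = 1 := by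
      have h := dist sa sa2
      rw [aa, ab, ac, mul_assoc tc sa sa, sa2, mul_one, Cab.mul_pow, ← pow_two, ← pow_mul] at h
      have e : ta ^ (2 * m) * (ta ^ n * tb ^ n) * tc ^ p = ta ^ (m + n) * (ta ^ m * tb ^ n * tc ^ p) := by
        simp only [← mul_assoc, ← pow_add]
        rw [show 2 * m + n = m + n + m by ring]
      rwa [e, hR, mul_one] at h
    have h3 : tc ^ (n + p) = 1 := by
      have h := dist sc sc2
      rw [ca, mul_assoc ta sc sc, sc2, mul_one, cb, cc, Cbc.mul_pow, ← pow_two, ← pow_mul] at h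
      have e : ta ^ m * (tb ^ n * tc ^ n) * tc ^ (2 * p) = ta ^ m * tb ^ n * tc ^ p * tc ^ (n + p) := by
        simp only [mul_assoc, ← pow_add]
        rw [show n + 2 * p = p + (n + p) by ring]
      rwa [e, hR, one_mul] at h
    have h4 : tb ^ (m + n + p) = 1 := by
      have h := dist sb sb2
      rw [ba, bb, bc, Cab.mul_pow, Cbc.mul_pow, ← pow_two, ← pow_mul] at h
      have e : ta ^ m * tb ^ m * tb ^ (2 * n) * (tb ^ p * tc ^ p) =
          ta ^ m * tb ^ n * tb ^ (m + n + p) * tc ^ p := by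
        simp only [mul_assoc]
        simp only [← mul_assoc (tb ^ _) (tb ^ _), ← pow_add]
        rw [show m + (2 * n + p) = n + (m + n + p) by ring]
      rw [e, mul_assoc _ (tb ^ (m + n + p)), (Cbc.pow_pow (m + n + p) p).eq, ← mul_assoc, hR, one_mul] at h
      exact h
    have := three ta nea ha _ h1
    have := three tc nec hc3 _ h3
    have := three tb neb hb _ h4
    omega
  obtain ⟨h1, s, hs3, hdiag⟩ := exists_diag hF hσ hc ![ta, tb, tc]
    (fun r => by fin_cases r <;> simp [ha, hb, hc3])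
    (fun r r' => by fin_cases r <;> fin_cases r' <;> simp [cab, cbc, cac])
  set a := s 0
  set b := s 1
  set c := s 2
  let φ : Cfsg.SU 4 F 2 ≃* Cfsg.SU 4 F 2 := (MulAut.conj h1).symm
  have hφ : ∀ x, φ x = h1⁻¹ * x * h1 := fun x => by simp [φ]
  have ea : (φ ta).1.1 = diagonal a := by rw [hφ]; exact hdiag 0
  have eb : (φ tb).1.1 = diagonal b := by rw [hφ]; exact hdiag 1
  have ec : (φ tc).1.1 = diagonal c := by rw [hφ]; exact hdiag 2
  have ne0 : ∀ {z : F}, z * z * z = 1 → z ≠ 0 := fun h e => by rw [e, mul_zero] at h; exact zero_ne_one h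
  have prod : ∀ r, s r 0 * s r 1 * s r 2 * s r 3 = 1 := fun r => by
    have h := (h1⁻¹ * (![ta, tb, tc] r) * h1).1.2
    rw [hdiag, det_diagonal, Fin.prod_univ_four] at h
    exact h
  have val : ∀ m n p, (φ (ta ^ m * tb ^ n * tc ^ p)).1.1 = diagonal fun k => a k ^ m * b k ^ n * c k ^ p := fun m n p => by
    rw [map_mul, map_mul, map_pow, map_pow, map_pow]
    show ((φ ta).1 ^ m * (φ tb).1 ^ n * (φ tc).1 ^ p).1 = _
    rw [Matrix.SpecialLinearGroup.coe_mul, Matrix.SpecialLinearGroup.coe_mul, Matrix.SpecialLinearGroup.coe_pow,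
      Matrix.SpecialLinearGroup.coe_pow, Matrix.SpecialLinearGroup.coe_pow, ea, eb, ec, diagonal_pow, diagonal_pow,
      diagonal_pow, diagonal_mul_diagonal, diagonal_mul_diagonal]
    rfl
  have indep' : ∀ m n p, (∀ k, a k ^ m * b k ^ n * c k ^ p = 1) → m % 3 = 0 ∧ n % 3 = 0 ∧ p % 3 = 0 := by
    intro m n p hk
    refine indep m n p (φ.injective (Subtype.ext (Subtype.ext ?_)))
    rw [val, map_one, show (fun k => a k ^ m * b k ^ n * c k ^ p) = fun _ => (1 : F) from funext hk, diagonal_one]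
    rfl
  have dne : ∀ {x : Fin 4 → F}, (∀ l, x l = 1) → x = a ∨ x = b ∨ x = c → False := by
    rintro x hx (rfl | rfl | rfl)
    · have := (indep' 1 0 0 fun k => by simp [hx k]).1; omega
    · have := (indep' 0 1 0 fun k => by simp [hx k]).2.1; omega
    · have := (indep' 0 0 1 fun k => by simp [hx k]).2.2; omega
  obtain ⟨ω, hω⟩ := exists_omega hF
  obtain ⟨hω0, hω3⟩ := omega_facts hω
  have roots : ∀ z : F, z * z * z = 1 → z ∈ ({1, ω, ω * ω} : Finset F) := fun z hz => by
    simp only [Finset.mem_insert, Finset.mem_singleton]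
    rcases mul_eq_zero.1 (show (z - 1) * ((z - ω) * (z - ω * ω)) = 0 by
      linear_combination hz + (-z * z + z) * hω + (z - 1) * hω3) with e | e
    · exact Or.inl (sub_eq_zero.1 e)
    rcases mul_eq_zero.1 e with e | e
    · exact Or.inr (Or.inl (sub_eq_zero.1 e))
    · exact Or.inr (Or.inr (sub_eq_zero.1 e))
  have pw3 : ∀ r k m, (s r k) ^ m * (s r k) ^ m * (s r k) ^ m = 1 := fun r k m => by
    rw [← mul_pow, ← mul_pow, hs3, one_pow]
  -- the tori separate the coordinates
  have sep : ∀ k l, a k = a l → b k = b l → c k = c l → k = l := by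
    intro k l e1 e2 e3
    by_contra hkl
    obtain ⟨r, hrk, hrl⟩ := (by decide : ∀ k l : Fin 4, ∃ r, r ≠ k ∧ r ≠ l) k l
    let f : Fin 3 × Fin 3 × Fin 3 → F × F := fun e =>
      (a k ^ e.1.val * b k ^ e.2.1.val * c k ^ e.2.2.val, a r ^ e.1.val * b r ^ e.2.1.val * c r ^ e.2.2.val)
    have hmem : ∀ e ∈ (Finset.univ : Finset (Fin 3 × Fin 3 × Fin 3)),
        f e ∈ ({1, ω, ω * ω} : Finset F) ×ˢ ({1, ω, ω * ω} : Finset F) := fun e _ => by
      refine Finset.mem_product.2 ⟨roots _ ?_, roots _ ?_⟩ <;>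
      · simp only [f]
        linear_combination ((a _ ^ e.1.val) ^ 3 * (b _ ^ e.2.1.val) ^ 3) * pw3 2 _ e.2.2.val +
          ((a _ ^ e.1.val) ^ 3) * pw3 1 _ e.2.1.val + pw3 0 _ e.1.val
    have hcard : (({1, ω, ω * ω} : Finset F) ×ˢ ({1, ω, ω * ω} : Finset F)).card <
        (Finset.univ : Finset (Fin 3 × Fin 3 × Fin 3)).card := by
      rw [Finset.card_product]
      calc _ ≤ 3 * 3 := Nat.mul_le_mul Finset.card_le_three Finset.card_le_three
        _ < _ := by simp
    obtain ⟨u, -, v, -, huv, e⟩ := Finset.exists_ne_map_eq_of_card_lt_of_maps_to hcard hmem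
    simp only [f, Prod.mk.injEq] at e
    let W : (Fin 3 × Fin 3 × Fin 3) → Fin 4 → F := fun e x => a x ^ e.1.val * b x ^ e.2.1.val * c x ^ e.2.2.val
    have hW : ∀ e, W e 0 * W e 1 * W e 2 * W e 3 = 1 := fun e => by
      simp only [W]
      calc _ = (a 0 * a 1 * a 2 * a 3) ^ e.1.val * (b 0 * b 1 * b 2 * b 3) ^ e.2.1.val *
          (c 0 * c 1 * c 2 * c 3) ^ e.2.2.val := by ring
        _ = 1 := by rw [prod, prod, prod]; simp
    have hk' : W u k = W v k := e.1
    have hl' : W u l = W v l := by simp only [W, ← e1, ← e2, ← e3]; exact e.1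
    have hr' : W u r = W v r := e.2
    obtain ⟨r', hcov⟩ := (by decide : ∀ k l r : Fin 4, k ≠ l → r ≠ k → r ≠ l →
      ∃ r', ∀ x, x = k ∨ x = l ∨ x = r ∨ x = r') k l r hkl hrk hrl
    have all : ∀ x, W u x = W v x := by
      have hrest : ∀ x, x ≠ r' → W u x = W v x := fun x hx => by
        rcases hcov x with rfl | rfl | rfl | rfl <;> first | assumption | exact absurd rfl hx
      intro x
      by_cases hx : x = r'
      · have h0 := hW u
        have h0' := hW v
        have wne : ∀ e y, W e y ≠ 0 := fun e y => mul_ne_zero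
          (mul_ne_zero (pow_ne_zero _ (ne0 (hs3 0 y))) (pow_ne_zero _ (ne0 (hs3 1 y)))) (pow_ne_zero _ (ne0 (hs3 2 y)))
        subst hx
        rw [← h0'] at h0
        fin_cases x <;> simp only [] at hrest ⊢
        · rw [hrest 1 (by decide), hrest 2 (by decide), hrest 3 (by decide)] at h0
          exact mul_right_cancel₀ (wne v 1) (mul_right_cancel₀ (wne v 2) (mul_right_cancel₀ (wne v 3) h0))
        · rw [hrest 0 (by decide), hrest 2 (by decide), hrest 3 (by decide)] at h0
          exact mul_left_cancel₀ (wne v 0) (mul_right_cancel₀ (wne v 2) (mul_right_cancel₀ (wne v 3) h0))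
        · rw [hrest 0 (by decide), hrest 1 (by decide), hrest 3 (by decide)] at h0
          exact mul_left_cancel₀ (mul_ne_zero (wne v 0) (wne v 1)) (mul_right_cancel₀ (wne v 3) h0)
        · rw [hrest 0 (by decide), hrest 1 (by decide), hrest 2 (by decide)] at h0
          exact mul_left_cancel₀ (mul_ne_zero (mul_ne_zero (wne v 0) (wne v 1)) (wne v 2)) h0
      · exact hrest x hx
    have := indep' (u.1.val + 2 * v.1.val) (u.2.1.val + 2 * v.2.1.val) (u.2.2.val + 2 * v.2.2.val) fun x => by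
      have h := all x
      simp only [W] at h
      rw [pow_add, pow_add, pow_add, pow_mul', pow_mul', pow_mul']
      linear_combination (a x ^ v.1.val) ^ 2 * (b x ^ v.2.1.val) ^ 2 * (c x ^ v.2.2.val) ^ 2 * h +
        ((a x ^ v.1.val) ^ 3 * (b x ^ v.2.1.val) ^ 3) * pw3 2 x v.2.2.val +
        ((a x ^ v.1.val) ^ 3) * pw3 1 x v.2.1.val + pw3 0 x v.1.val
    refine huv (Prod.ext (Fin.ext ?_) (Prod.ext (Fin.ext ?_) (Fin.ext ?_))) <;>
      (have := u.1.isLt; have := v.1.isLt; have := u.2.1.isLt; have := v.2.1.isLt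
       have := u.2.2.isLt; have := v.2.2.isLt; omega)
  have sq1 : ∀ {z : F}, z * z = 1 → z = 1 := fun {z} h => by
    have : (z - 1) ^ 2 = 0 := by linear_combination h + (1 - z) * h2
    exact sub_eq_zero.1 (eq_zero_of_pow_eq_zero this)
  have idem : ∀ {z : F}, z * z * z = 1 → z = z * z → z = 1 := fun {z} h3' h => by
    rw [← h] at h3'
    exact sq1 h3'
  -- the involutions permute the coordinates
  have mono : ∀ (t : Cfsg.SU 4 F 2) (ya yb yc : Fin 4 → F), t * t = 1 →
      (∀ k l, (φ t).1.1 k l * a l = ya k * (φ t).1.1 k l) → (∀ k l, (φ t).1.1 k l * b l = yb k * (φ t).1.1 k l) →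
      (∀ k l, (φ t).1.1 k l * c l = yc k * (φ t).1.1 k l) →
      ∃ ρ : Fin 4 → Fin 4, (∀ k, ρ (ρ k) = k) ∧ (∀ k, a (ρ k) = ya k ∧ b (ρ k) = yb k ∧ c (ρ k) = yc k) ∧
        ∀ k, ρ k = k → act (φ t) (ev k) = ev k := by
    intro t ya yb yc ht ra rb rc
    set M := (φ t).1.1
    have hMM : M * M = 1 := by
      show (φ t * φ t).1.1 = 1
      rw [← map_mul, ht, map_one]
      rfl
    have row : ∀ k, ∃ l, M k l ≠ 0 := fun k => by
      by_contra! h
      have := congrFun (congrFun hMM k) k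
      rw [Matrix.mul_apply, Finset.sum_eq_zero (fun l _ => by rw [h l, zero_mul]), Matrix.one_apply_eq] at this
      exact zero_ne_one this
    choose ρ hρ using row
    have cancel : ∀ {x y : Fin 4 → F} {k l}, M k l ≠ 0 → M k l * x l = y k * M k l → x l = y k := fun h e =>
      mul_left_cancel₀ h (e.trans (mul_comm _ _))
    have uniq : ∀ k l, M k l ≠ 0 → l = ρ k := fun k l hl => sep l (ρ k)
      ((cancel hl (ra k l)).trans (cancel (hρ k) (ra k (ρ k))).symm)
      ((cancel hl (rb k l)).trans (cancel (hρ k) (rb k (ρ k))).symm)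
      ((cancel hl (rc k l)).trans (cancel (hρ k) (rc k (ρ k))).symm)
    have hsum : ∀ k k', (M * M) k k' = M k (ρ k) * M (ρ k) k' := fun k k' => by
      rw [Matrix.mul_apply, Finset.sum_eq_single (ρ k)]
      · intro l _ hl
        rw [show M k l = 0 by by_contra h; exact hl (uniq k l h), zero_mul]
      · simp
    have invol : ∀ k, ρ (ρ k) = k := fun k => by
      have h := hsum k k
      rw [hMM, Matrix.one_apply_eq] at h
      exact (uniq (ρ k) k (fun e => by rw [e, mul_zero] at h; exact one_ne_zero h)).symm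
    refine ⟨ρ, invol, fun k => ⟨cancel (hρ k) (ra k _), cancel (hρ k) (rb k _), cancel (hρ k) (rc k _)⟩, fun k hk => ?_⟩
    funext l
    rw [act_col hσ]
    show M l k = (ev k : Fin 4 → F) l
    by_cases hl : l = k
    · subst hl
      have h := hsum l l
      rw [hMM, Matrix.one_apply_eq, hk] at h
      rw [sq1 h.symm]
      simp [ev]
    · rw [show M l k = 0 by
        by_contra h
        exact hl (by rw [← invol l, ← uniq l k h, hk])]
      simp [ev, hl]
  have rel : ∀ (t x : Cfsg.SU 4 F 2) (v : Fin 4 → F) (m n p : ℕ), t * t = 1 → t * x * t = ta ^ m * tb ^ n * tc ^ p →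
      (φ x).1.1 = diagonal v → ∀ k l, (φ t).1.1 k l * v l = a k ^ m * b k ^ n * c k ^ p * (φ t).1.1 k l := by
    intro t x v m n p ht h hv k l
    have e : t * x = ta ^ m * tb ^ n * tc ^ p * t := by rw [← h, mul_assoc _ t t, ht, mul_one]
    have e' : (φ t).1.1 * (φ x).1.1 = (φ (ta ^ m * tb ^ n * tc ^ p)).1.1 * (φ t).1.1 := by
      show (φ t * φ x).1.1 = (φ (ta ^ m * tb ^ n * tc ^ p) * φ t).1.1
      rw [← map_mul, ← map_mul, e]
    rw [hv, val] at e'
    have := congrFun (congrFun e' k) l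
    rwa [mul_diagonal, diagonal_mul] at this
  obtain ⟨ρa, ia, Ra, Fa⟩ := mono sa _ _ _ sa2 (rel sa ta a 2 0 0 sa2 (by rw [aa]; simp [pow_two]) ea)
    (rel sa tb b 1 1 0 sa2 (by rw [ab]; simp) eb)
    (rel sa tc c 0 0 1 sa2 (by rw [ac, mul_assoc tc, sa2, mul_one]; simp) ec)
  obtain ⟨ρb, ib, Rb, Fb⟩ := mono sb _ _ _ sb2 (rel sb ta a 1 1 0 sb2 (by rw [ba]; simp) ea)
    (rel sb tb b 0 2 0 sb2 (by rw [bb]; simp [pow_two]) eb)
    (rel sb tc c 0 1 1 sb2 (by rw [bc]; simp) ec)
  obtain ⟨ρc, ic, Rc, Fc⟩ := mono sc _ _ _ sc2 (rel sc ta a 1 0 0 sc2 (by rw [ca, mul_assoc ta, sc2, mul_one]; simp) ea)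
    (rel sc tb b 0 1 1 sc2 (by rw [cb]; simp) eb)
    (rel sc tc c 0 0 2 sc2 (by rw [cc]; simp [pow_two]) ec)
  simp only [pow_zero, pow_one, one_mul, mul_one, pow_two] at Ra Rb Rc
  have a3 : ∀ k, a k * a k * a k = 1 := hs3 0
  have b3 : ∀ k, b k * b k * b k = 1 := hs3 1
  have c3 : ∀ k, c k * c k * c k = 1 := hs3 2
  -- no involution is free
  have free : ∀ (ρ : Fin 4 → Fin 4) (w w' : Fin 4 → F), (∀ k, ρ (ρ k) = k) → (∀ k, ρ k ≠ k) →
      (∀ k, w k * w k * w k = 1) → (∀ k, w' k * w' k * w' k = 1) → (∀ k, w (ρ k) = w k) → (∀ k, w' (ρ k) = w' k) →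
      w 0 * w 1 * w 2 * w 3 = 1 → w' 0 * w' 1 * w' 2 * w' 3 = 1 →
      (∀ k, w' k = 1) ∨ ∃ n : ℕ, ∀ k, w k * (w' k ^ n) * (w' k ^ n) = 1 := by
    intro ρ w w' hi hf hw hw' hwi hwi' pw pw'
    obtain ⟨i, k, hki, hkρ, cov⟩ := involution_free ρ hi hf
    have two : ∀ u : Fin 4 → F, (∀ k, u (ρ k) = u k) → (∀ k, u k * u k * u k = 1) → u 0 * u 1 * u 2 * u 3 = 1 →
        u k = u i * u i ∧ ∀ l, u l = u i ∨ u l = u i * u i := by
      intro u hu hu3 hp
      have hprod : ∏ l, u l = u i * u (ρ i) * u k * u (ρ k) := by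
        have d : (Finset.univ : Finset (Fin 4)) = {i, ρ i, k, ρ k} := by
          ext l; simpa using cov l
        have n1 : i ∉ ({ρ i, k, ρ k} : Finset (Fin 4)) := by
          simp only [Finset.mem_insert, Finset.mem_singleton, not_or]
          exact ⟨(hf i).symm, hki.symm, fun e => hkρ (by rw [e, hi])⟩
        have n2 : ρ i ∉ ({k, ρ k} : Finset (Fin 4)) := by
          simp only [Finset.mem_insert, Finset.mem_singleton, not_or]
          exact ⟨hkρ.symm, fun e => hki (by rw [← hi k, ← e, hi])⟩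
        rw [d, Finset.prod_insert n1, Finset.prod_insert n2, Finset.prod_pair (hf k).symm]
        ring
      rw [Fin.prod_univ_four, hp, hu, hu] at hprod
      have e : u i * u k = 1 := sq1 (by linear_combination -hprod)
      have ek : u k = u i * u i := by linear_combination (u i * u i) * e - u k * hu3 i
      refine ⟨ek, fun l => ?_⟩
      rcases cov l with rfl | rfl | rfl | rfl
      · exact Or.inl rfl
      · exact Or.inl (hu i)
      · exact Or.inr ek
      · exact Or.inr ((hu k).trans ek)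
    obtain ⟨ek, cl⟩ := two w hwi hw pw
    obtain ⟨ek', cl'⟩ := two w' hwi' hw' pw'
    by_cases h1 : w' i = 1
    · exact Or.inl fun l => by rcases cl' l with e | e <;> simp [e, h1]
    refine Or.inr ?_
    obtain ⟨n, hn⟩ : ∃ n : ℕ, w i = w' i ^ n := by
      have m1 := roots _ (hw i)
      have m2 := roots _ (hw' i)
      simp only [Finset.mem_insert, Finset.mem_singleton] at m1 m2
      rcases m1 with e1 | e1 | e1
      · exact ⟨0, by rw [e1, pow_zero]⟩
      all_goals rcases m2 with e2 | e2 | e2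
      · exact absurd e2 h1
      · exact ⟨1, by rw [e1, e2, pow_one]⟩
      · exact ⟨2, by rw [e1, e2, pow_two]; linear_combination -ω * hω3⟩
      · exact absurd e2 h1
      · exact ⟨2, by rw [e1, e2, pow_two]⟩
      · exact ⟨1, by rw [e1, e2, pow_one]⟩
    refine ⟨n, fun l => ?_⟩
    have e3 : w' i ^ n * w' i ^ n * w' i ^ n = 1 := by rw [← mul_pow, ← mul_pow, hw', one_pow]
    have hsplit : (w l = w i ∧ w' l = w' i) ∨ (w l = w i * w i ∧ w' l = w' i * w' i) := by
      rcases cov l with h | h | h | h <;> subst h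
      · exact Or.inl ⟨rfl, rfl⟩
      · exact Or.inl ⟨hwi i, hwi' i⟩
      · exact Or.inr ⟨ek, ek'⟩
      · exact Or.inr ⟨(hwi k).trans ek, (hwi' k).trans ek'⟩
    rcases hsplit with ⟨e, e'⟩ | ⟨e, e'⟩
    · rw [e, e', hn]; exact e3
    · rw [e, e', hn, mul_pow]; linear_combination (w' i ^ n * w' i ^ n * w' i ^ n + 1) * e3
  have swap : ∀ (ρ : Fin 4 → Fin 4) (x : Fin 4 → F), (∀ k, ρ (ρ k) = k) → (∃ k, ρ k = k) → (x = a ∨ x = b ∨ x = c) →
      (∀ k, x k * x k * x k = 1) → (∀ k, x (ρ k) = x k * x k) →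
      ∃ i j, i ≠ j ∧ ρ i = j ∧ (∀ l, l ≠ i → l ≠ j → ρ l = l) ∧
        (∀ l, x l ≠ 1 ↔ l = i ∨ l = j) := by
    intro ρ x hi hfix hx hx3 hrel
    have hmv : ∃ k, ρ k ≠ k := by
      by_contra! hall
      exact dne (fun l => idem (hx3 l) (by have h := hrel l; rwa [hall l] at h)) hx
    obtain ⟨i, j, hij, hρ, hout⟩ := involution_four ρ hi hmv hfix
    refine ⟨i, j, hij, hρ, hout, fun l => ⟨fun hl => ?_, fun hl e => ?_⟩⟩
    · by_contra hne
      rw [not_or] at hne
      exact hl (idem (hx3 l) (by have h := hrel l; rwa [hout l hne.1 hne.2] at h))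
    · have hxi : x i = 1 ∧ x j = 1 := by
        rcases hl with rfl | rfl
        · exact ⟨e, by rw [← hρ, hrel, e, one_mul]⟩
        · refine ⟨?_, e⟩
          have := hrel l
          rw [show ρ l = i by rw [← hρ, hi], e, one_mul] at this
          exact this
      exact dne (fun l' => by
        by_cases h1 : l' = i
        · rw [h1, hxi.1]
        by_cases h2' : l' = j
        · rw [h2', hxi.2]
        exact idem (hx3 l') (by have h := hrel l'; rwa [hout l' h1 h2'] at h)) hx
  have pA : a 0 * a 1 * a 2 * a 3 = 1 := prod 0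
  have pB : b 0 * b 1 * b 2 * b 3 = 1 := prod 1
  have pC : c 0 * c 1 * c 2 * c 3 = 1 := prod 2
  have pAB : a 0 * (b 0 * b 0) * (a 1 * (b 1 * b 1)) * (a 2 * (b 2 * b 2)) * (a 3 * (b 3 * b 3)) = 1 := by
    linear_combination (b 0 * b 1 * b 2 * b 3) ^ 2 * pA + (b 0 * b 1 * b 2 * b 3 + 1) * pB
  have pCB : c 0 * (b 0 * b 0) * (c 1 * (b 1 * b 1)) * (c 2 * (b 2 * b 2)) * (c 3 * (b 3 * b 3)) = 1 := by
    linear_combination (b 0 * b 1 * b 2 * b 3) ^ 2 * pC + (b 0 * b 1 * b 2 * b 3 + 1) * pB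
  have cube_ab : ∀ k, a k * (b k * b k) * (a k * (b k * b k)) * (a k * (b k * b k)) = 1 := fun k => by
    linear_combination (b k * b k * b k) ^ 2 * a3 k + (b k * b k * b k + 1) * b3 k
  have cube_cb : ∀ k, c k * (b k * b k) * (c k * (b k * b k)) * (c k * (b k * b k)) = 1 := fun k => by
    linear_combination (b k * b k * b k) ^ 2 * c3 k + (b k * b k * b k + 1) * b3 k
  have fA : ∃ k, ρa k = k := by
    by_contra! hf
    rcases free ρa (fun k => a k * (b k * b k)) c ia hf cube_ab c3
      (fun k => by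
        obtain ⟨r1, r2, -⟩ := Ra k
        rw [r1, r2]
        linear_combination (a k * (b k * b k)) * a3 k)
      (fun k => (Ra k).2.2) pAB pC with h | ⟨n, h⟩
    · exact dne h (Or.inr (Or.inr rfl))
    · have := indep' 1 2 (n + n) fun k => by rw [pow_one, pow_two, pow_add, ← mul_assoc]; exact h k
      omega
  have fB : ∃ k, ρb k = k := by
    by_contra! hf
    rcases free ρb (fun k => a k * (b k * b k)) (fun k => c k * (b k * b k)) ib hf cube_ab cube_cb
      (fun k => by
        obtain ⟨r1, r2, -⟩ := Rb k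
        rw [r1, r2]
        linear_combination (a k * (b k * b k)) * b3 k)
      (fun k => by
        obtain ⟨-, r2, r3⟩ := Rb k
        rw [r3, r2]
        linear_combination (c k * (b k * b k)) * b3 k)
      pAB pCB with h | ⟨n, h⟩
    · have := indep' 0 2 1 fun k => by rw [pow_zero, one_mul, pow_one, pow_two, mul_comm]; exact h k
      omega
    · have := indep' 1 (2 + 2 * (n + n)) (n + n) fun k => by
        have := h k
        rw [mul_pow, mul_pow] at this
        rw [pow_one, ← this]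
        ring
      omega
  have fC : ∃ k, ρc k = k := by
    by_contra! hf
    rcases free ρc (fun k => c k * (b k * b k)) a ic hf cube_cb a3
      (fun k => by
        obtain ⟨-, r2, r3⟩ := Rc k
        rw [r3, r2]
        linear_combination (c k * (b k * b k)) * c3 k)
      (fun k => (Rc k).1) pCB pA with h | ⟨n, h⟩
    · exact dne h (Or.inl rfl)
    · have := indep' (n + n) 2 1 fun k => by
        have := h k
        rw [pow_one, pow_two, pow_add, ← this]
        ring
      omega
  obtain ⟨i, j, hij, hρa, oa, sA⟩ := swap ρa a ia fA (Or.inl rfl) a3 (fun k => (Ra k).1)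
  obtain ⟨p, q', hpq, hρb, ob, sB⟩ := swap ρb b ib fB (Or.inr (Or.inl rfl)) b3 (fun k => (Rb k).2.1)
  obtain ⟨k, r, hkr, hρc, oc, sC⟩ := swap ρc c ic fC (Or.inr (Or.inr rfl)) c3 (fun k => (Rc k).2.2)
  have aC : ∀ l, c l ≠ 1 → a l = 1 := by
    intro l hl
    by_contra ha'
    have hρ : ρa l = i ∨ ρa l = j := by
      rcases (sA l).1 ha' with rfl | rfl
      · exact Or.inr hρa
      · exact Or.inl (by rw [← hρa, ia])
    have hne : ρa l ≠ l := by
      rcases (sA l).1 ha' with rfl | rfl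
      · rw [hρa]; exact hij.symm
      · rw [← hρa, ia, hρa]; exact hij
    have hcl : c (ρa l) ≠ 1 := by rw [(Ra l).2.2]; exact hl
    have e : ρc l = ρa l := by
      rcases (sC l).1 hl with h | h <;> rcases (sC (ρa l)).1 hcl with h' | h'
      · exact absurd (h'.trans h.symm) hne
      · rw [h', h, hρc]
      · rw [h', h, ← hρc, ic]
      · exact absurd (h'.trans h.symm) hne
    have := (Rc l).2.2
    rw [e, (Ra l).2.2] at this
    exact hl (idem (c3 l) this)
  -- the middle support meets both outer ones once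
  have meet : ∀ (x : Fin 4 → F) (ρ : Fin 4 → Fin 4) (i j : Fin 4), i ≠ j → ρ i = j → (∀ k, ρ (ρ k) = k) →
      (∀ l, x l ≠ 1 ↔ l = i ∨ l = j) → (∀ k, x k * x k * x k = 1) → (∀ k, x (ρ k) = x k * x k) →
      (∀ k, b (ρ k) = x k * b k) → (¬ ∀ k, x k * x k * b k = 1) →
      ∃ e f, e ≠ f ∧ (∀ l, x l ≠ 1 ↔ l = e ∨ l = f) ∧ b e ≠ 1 ∧ b f = 1 := by
    intro x ρ i j hij hρ hi hsupp hx3 hself hbrel hind
    by_cases hbi : b i = 1
    · refine ⟨j, i, hij.symm, fun l => (hsupp l).trans or_comm, fun hbj => ?_, hbi⟩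
      have := hbrel i
      rw [hρ, hbj, hbi, mul_one] at this
      exact (hsupp i).2 (Or.inl rfl) this.symm
    · by_cases hbj : b j = 1
      · exact ⟨i, j, hij, hsupp, hbi, hbj⟩
      exfalso
      -- both supports coincide
      have hb : ∀ l, b l ≠ 1 ↔ l = i ∨ l = j := fun l => by
        have hi' := (sB i).1 hbi
        have hj' := (sB j).1 hbj
        rw [sB l]
        rcases hi' with rfl | rfl <;> rcases hj' with rfl | rfl
        · exact absurd rfl hij
        · rfl
        · exact or_comm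
        · exact absurd rfl hij
      have hρb' : ρb i = j := by
        rcases (sB i).1 hbi with rfl | rfl <;> rcases (sB j).1 hbj with rfl | rfl
        · exact absurd rfl hij
        · exact hρb
        · rw [← hρb, ib]
        · exact absurd rfl hij
      have e1 : b j = x i * b i := by rw [← hρ]; exact hbrel i
      have e2 : b j = b i * b i := by rw [← hρb']; exact (Rb i).2.1
      have hbx : b i = x i := mul_right_cancel₀ (ne0 (b3 i)) (e2.symm.trans e1)
      refine hind fun l => ?_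
      by_cases h1 : l = i
      · rw [h1, hbx]; exact hx3 i
      by_cases h2' : l = j
      · rw [h2', e2, hbx, ← hρ, hself]
        linear_combination (x i * x i * x i + 1) * hx3 i
      have e3 : x l = 1 := by by_contra h; rcases (hsupp l).1 h with h | h <;> contradiction
      have e4 : b l = 1 := by by_contra h; rcases (hb l).1 h with h | h <;> contradiction
      rw [e3, e4, one_mul, one_mul]
  obtain ⟨e1, e0, h10, sA', hb1, hb0⟩ := meet a ρa i j hij hρa ia sA a3 (fun k => (Ra k).1) (fun k => (Ra k).2.1)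
    fun h => by have := (indep' 2 1 0 fun k => by rw [pow_two, pow_one, pow_zero, mul_one]; exact h k).1; omega
  obtain ⟨e2, e3, h23, sC', hb2, hb3⟩ := meet c ρc k r hkr hρc ic sC c3 (fun k => (Rc k).2.2)
    (fun k => (Rc k).2.1.trans (mul_comm _ _))
    fun h => by
      have := (indep' 0 1 2 fun k => by rw [pow_zero, pow_one, pow_two, one_mul, mul_comm]; exact h k).2.1
      omega
  have disj : ∀ l m, (l = e1 ∨ l = e0) → (m = e2 ∨ m = e3) → l ≠ m := fun l m hl hm e =>
    (sA' l).2 hl (aC l (e ▸ (sC' m).2 hm))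
  let π : Equiv.Perm (Fin 4) := Equiv.ofBijective ![e0, e1, e2, e3] ((Fintype.bijective_iff_injective_and_card _).2 ⟨by
    have := disj e0 e2 (Or.inr rfl) (Or.inl rfl); have := disj e0 e3 (Or.inr rfl) (Or.inr rfl)
    have := disj e1 e2 (Or.inl rfl) (Or.inl rfl); have := disj e1 e3 (Or.inl rfl) (Or.inr rfl)
    have := h10.symm
    intro u v huv
    fin_cases u <;> fin_cases v <;> first
      | rfl
      | exact absurd huv (by assumption)
      | exact absurd huv.symm (by assumption), rfl⟩)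
  obtain ⟨g, hg⟩ := exists_perm hF hσ hc π
  -- transport
  have tr : ∀ (x : Cfsg.SU 4 F 2) (T : Finset (Fin 4)), (∀ l, l ∉ T → act (φ x) (ev (π l)) = ev (π l)) →
      (h1 * g)⁻¹ * x * (h1 * g) ∈ fixS F 2 T := by
    intro x T h l hl
    obtain ⟨c', hc0, eg⟩ := hg l
    rw [show (h1 * g)⁻¹ * x * (h1 * g) = g⁻¹ * φ x * g by rw [hφ]; group, act_mul, act_mul, eg, act_smul, h l hl,
      act_smul]
    have := act_inv_of eg
    rw [act_smul] at this
    exact this
  have dfix : ∀ (x : Cfsg.SU 4 F 2) (v : Fin 4 → F) l, (φ x).1.1 = diagonal v → v l = 1 → act (φ x) (ev l) = ev l := by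
    intro x v l e hl
    funext m
    rw [act_col hσ, e]
    by_cases hm : m = l
    · subst hm; simp [ev, hl]
    · simp [ev, hm]
  have outside : ∀ (T : Finset (Fin 4)) l, l ∉ T → ∀ m ∈ T, π l ≠ π m := fun T l hl m hm e => hl (π.injective e ▸ hm)
  have a1 : ∀ l, l ∉ ({0, 1} : Finset (Fin 4)) → a (π l) = 1 := fun l hl => by
    by_contra h
    rcases (sA' (π l)).1 h with e | e
    · exact outside _ l hl 1 (by simp) e
    · exact outside _ l hl 0 (by simp) e
  have c1 : ∀ l, l ∉ ({2, 3} : Finset (Fin 4)) → c (π l) = 1 := fun l hl => by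
    by_contra h
    rcases (sC' (π l)).1 h with e | e
    · exact outside _ l hl 2 (by simp) e
    · exact outside _ l hl 3 (by simp) e
  have b1 : ∀ l, l ∉ ({1, 2} : Finset (Fin 4)) → b (π l) = 1 := fun l hl => by
    fin_cases l
    · exact hb0
    · simp at hl
    · simp at hl
    · exact hb3
  have fixed : ∀ (ρ : Fin 4 → Fin 4) (x : Fin 4 → F) (i j : Fin 4), (∀ l, l ≠ i → l ≠ j → ρ l = l) →
      (∀ l, x l ≠ 1 ↔ l = i ∨ l = j) → ∀ l, x l = 1 → ρ l = l := fun ρ x i j ho hsupp l hl =>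
    ho l (fun e => (hsupp l).2 (Or.inl e) hl) fun e => (hsupp l).2 (Or.inr e) hl
  exact ⟨h1 * g, ⟨tr ta _ fun l hl => dfix _ _ _ ea (a1 l hl), tr sa _ fun l hl => Fa _ (fixed ρa a i j oa sA _ (a1 l hl))⟩,
    ⟨tr tb _ fun l hl => dfix _ _ _ eb (b1 l hl), tr sb _ fun l hl => Fb _ (fixed ρb b p q' ob sB _ (b1 l hl))⟩,
    ⟨tr tc _ fun l hl => dfix _ _ _ ec (c1 l hl), tr sc _ fun l hl => Fc _ (fixed ρc c k r oc sC _ (c1 l hl))⟩⟩

end CfsgLib.Phan.Q2
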