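import Cfsg.Agent.Lib.KnownB.Phan.Q2.Window
import Cfsg.Agent.Lib.KnownB.Phan.Q3.Main

/-!
# A weak Phan system over the field with four elements gives an image of the unitary group
-/

set_option autoImplicit false
set_option linter.unusedSectionVars false

open Matrix CfsgLib.Classical CfsgLib.SUPres

namespace CfsgLib.Phan

variable {F : Type*} [Field F] [Fintype F] {σ : F →+* F}

/-- Adjacent triples generate. -/
theorem gen_triples {n q : ℕ} (hσ : ∀ x, σ x = x ^ q) (hc : IsConjugation σ) {H : Subgroup (Cfsg.SU n F q)} :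
    ∀ m, 3 ≤ m → m ≤ n → (∀ s, s + 3 ≤ m → fixS F q (win n s (s + 3)) ≤ H) → fixS F q (below n m) ≤ H := by
  classical
  intro m hm
  induction m, hm using Nat.le_induction with
  | base =>
    intro _ hp
    rw [← win_zero]
    exact hp 0 le_rfl
  | succ m hm ih =>
    intro hmn hp
    let d : Fin n := ⟨m, by omega⟩
    let j : Fin n := ⟨m - 1, by omega⟩
    have hjd : j ≠ d := by simp [j, d, Fin.ext_iff]; omega
    obtain ⟨s, hs, ej, ed⟩ := exists_exchange hσ hc hjd
    have e : below n (m + 1) = insert d (below n m) := by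
      ext x; simp [mem_below, d, Fin.ext_iff]; omega
    rw [e]
    refine fixS_insert_le hσ hc (d := d) (i := ⟨0, by omega⟩) (j := j) (l := ⟨1, by omega⟩) (by simp [mem_below, d])
      (by simp [mem_below]; omega) (by simp [mem_below, j]; omega) (by simp [mem_below]; omega)
      (by simp [j, Fin.ext_iff]; omega) (by simp [Fin.ext_iff]) (by simp [j, Fin.ext_iff]; omega)
      (ih (by omega) fun s hs => hp s (by omega)) hs (hp (m - 2) (by omega) (fixS_mono ?_ hs)) ej ed
    intro x hx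
    simp [j, d, Fin.ext_iff] at hx
    rw [mem_win]; omega

/-- A weak Phan system over the field with four elements gives an image of the unitary group. -/
theorem phan_two {G : Type*} [Group G] (hσ : ∀ x, σ x = x ^ 2) (hc : IsConjugation σ)
    (hF : Fintype.card F = 2 ^ 2) (n : ℕ) (hn : 3 ≤ n)
    (U : Fin n → Subgroup G) (V : Fin n → Fin n → Subgroup G)
    (h1 : ∀ i j : Fin n, (i : ℕ) + 2 ≤ j → ∀ x ∈ U i, ∀ y ∈ U j, x * y = y * x)
    (h2 : ∀ i j : Fin n, (i : ℕ) + 1 = j → Cfsg.IsStandardUnitaryPair (V i j) (U i) (U j) F 2)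
    (h4 : ∀ i j k : Fin n, (i : ℕ) + 1 = j → (j : ℕ) + 1 = k →
      ∃ g : ↥(Cfsg.SU 4 F 2) →* ↥(V i j ⊔ V j k), Function.Surjective g)
    (h5 : ∀ i j k : Fin n, (j : ℕ) + 1 = k → ((i : ℕ) + 2 ≤ j ∨ (k : ℕ) + 2 ≤ i) →
      ∀ x ∈ U i, ∀ y ∈ V j k, x * y = y * x)
    (h6 : ∀ i j k l : Fin n, (i : ℕ) + 1 = j → (k : ℕ) + 1 = l → (j : ℕ) + 2 ≤ k →
      ∀ x ∈ V i j, ∀ y ∈ V k l, x * y = y * x) :
    ∃ f : Cfsg.SU (n + 1) F 2 →* G, ∀ i j : Fin n, (i : ℕ) + 1 = j →
      V i j ≤ f.range ∧ U i ≤ V i j ∧ U j ≤ V i j := by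
  classical
  let Ux : ℕ → Subgroup G := fun i => if h : i < n then U ⟨i, h⟩ else ⊥
  let Vx : ℕ → Subgroup G := fun i => if h : i + 1 < n then V ⟨i, by omega⟩ ⟨i + 1, h⟩ else ⊥
  have hU : ∀ i (h : i < n), Ux i = U ⟨i, h⟩ := fun i h => dif_pos h
  have hV : ∀ i (h : i + 1 < n), Vx i = V ⟨i, by omega⟩ ⟨i + 1, h⟩ := fun i h => dif_pos h
  have hstd : ∀ w, w + 1 < n → ∃ ψ : Cfsg.SU 3 F 2 →* G, PairSpec hσ ψ (Vx w) (Ux w) (Ux (w + 1)) := fun w h => by
    rw [hU w (by omega), hU (w + 1) h, hV w h]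
    exact spec_of_standard hσ (h2 _ _ rfl)
  have hcomm : ∀ a b, a + 2 ≤ b → b < n → ∀ x ∈ Ux a, ∀ y ∈ Ux b, x * y = y * x := fun a b hab hb x hx y hy => by
    rw [hU a (by omega)] at hx
    rw [hU b hb] at hy
    exact h1 _ _ hab x hx y hy
  have hu' : ∃ u : F, u * σ u = 1 ∧ u ≠ σ u := by
    obtain ⟨ω, hω⟩ := Q2.exists_omega hF
    refine ⟨ω, Q2.norm_one hF hσ hc (Q2.omega_facts hω).1, fun e => Q2.omega_ne_one hF hω ?_⟩
    rw [hσ, sq] at e
    exact (mul_eq_left₀ (Q2.omega_facts hω).1).1 e.symm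
  have fam : ∀ m, m + 1 ≤ n → ∃ φ : ℕ → (Cfsg.SU 3 F 2 →* G),
      (∀ w, w < m → PairSpec hσ (φ w) (Vx w) (Ux w) (Ux (w + 1))) ∧
      ∀ w, w + 1 < m → ∀ y, φ (w + 1) (upp hσ y) = φ w (low hσ y) := by
    intro m
    induction m with
    | zero => exact fun _ => ⟨fun _ => 1, fun w h => absurd h (by omega), fun w h => absurd h (by omega)⟩
    | succ m ih =>
      intro hm
      obtain ⟨φ, hspec, hag⟩ := ih (by omega)
      obtain ⟨χ, hχ⟩ := hstd m (by omega)
      obtain ⟨χ', hχ', hagree⟩ : ∃ χ' : Cfsg.SU 3 F 2 →* G, PairSpec hσ χ' (Vx m) (Ux m) (Ux (m + 1)) ∧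
          ∀ w, w + 1 = m → ∀ y, χ' (upp hσ y) = φ w (low hσ y) := by
        cases m with
        | zero => exact ⟨χ, hχ, fun w h => absurd h (by omega)⟩
        | succ k =>
          obtain ⟨χ', hχ', h⟩ := adjust_of hσ hc hF hu' (Q2.aut_classify hF hσ hc) (hspec k (by omega)) hχ
            (hcomm k (k + 2) le_rfl (by omega))
          exact ⟨χ', hχ', fun w hw => by obtain rfl : w = k := by omega
                                         exact h⟩
      refine ⟨Function.update φ m χ', fun w hw => ?_, fun w hw y => ?_⟩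
      · by_cases hwm : w = m
        · subst hwm; rw [Function.update_self]; exact hχ'
        · rw [Function.update_of_ne hwm]; exact hspec w (by omega)
      · rw [Function.update_of_ne (show w ≠ m by omega)]
        by_cases hwm : w + 1 = m
        · rw [hwm, Function.update_self]; exact hagree w hwm y
        · rw [Function.update_of_ne hwm]; exact hag w (by omega) y
  obtain ⟨φ, hspec, hag⟩ := fam (n - 1) (by omega)
  have hwin : ∀ w, w + 4 ≤ n + 1 → ∃ Φ : Cfsg.SU 4 F 2 →* G,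
      (∀ x, Φ (emb hσ Q3.fA x) = φ w x) ∧ ∀ x, Φ (emb hσ Q3.fB x) = φ (w + 1) x := fun w h => by
    obtain ⟨g, hg⟩ := h4 ⟨w, by omega⟩ ⟨w + 1, by omega⟩ ⟨w + 2, by omega⟩ rfl rfl
    refine Q2.window hF hσ hc (hspec w (by omega)) (hspec (w + 1) (by omega)) (hag w (by omega))
      (hcomm w (w + 2) le_rfl (by omega)) ((Subgroup.subtype _).comp g) ?_
    rw [MonoidHom.range_comp, MonoidHom.range_eq_top.2 hg, ← MonoidHom.range_eq_map, Subgroup.range_subtype,
      hV w (by omega), hV (w + 1) (by omega)]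
    exact ⟨le_sup_left, le_sup_right⟩
  choose Φ4 hA hB using hwin
  let θ : ∀ w, w + 4 ≤ n + 1 → fixS F 2 (win (n + 1) w (w + 4)) →* G := fun w h =>
    (Φ4 w h).comp ((embEquiv hσ (winEmb4 w h)).symm.toMonoidHom.comp
      (Subgroup.inclusion (le_of_eq (congrArg _ (winEmb4_map w h).symm))))
  have θ_eq : ∀ w (h : w + 4 ≤ n + 1) (x : fixS F 2 (win (n + 1) w (w + 4))) (A : Cfsg.SU 4 F 2),
      x.1 = emb hσ (winEmb4 w h) A → θ w h x = Φ4 w h A := by
    intro w h x A e
    show Φ4 w h ((embEquiv hσ (winEmb4 w h)).symm _) = Φ4 w h A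
    rw [(embEquiv hσ (winEmb4 w h)).symm_apply_eq.2 (Subtype.ext (e.trans (embEquiv_val hσ _ A).symm))]
  have eA : ∀ w (h : w + 4 ≤ n + 1), Q3.fA.trans (winEmb4 w h) = winEmb w (by omega) := fun w h => by
    ext i; rfl
  have eB : ∀ w (h : w + 4 ≤ n + 1), Q3.fB.trans (winEmb4 w h) = winEmb (w + 1) (by omega) := fun w h => by
    ext i
    show w + (i.val + 1) = w + 1 + i.val
    omega
  have three : ∀ w (h : w + 4 ≤ n + 1) (v : ℕ) (hv : v + 3 ≤ n + 1), v = w ∨ v = w + 1 → ∀ (A : Cfsg.SU 3 F 2)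
      (x : fixS F 2 (win (n + 1) w (w + 4))), x.1 = emb hσ (winEmb v hv) A → θ w h x = φ v A := by
    intro w h v hv hvw A x e
    rcases hvw with rfl | rfl
    · rw [θ_eq v h x (emb hσ Q3.fA A) (by rw [e, emb_trans, eA]), hA]
    · rw [θ_eq w h x (emb hσ Q3.fB A) (by rw [e, emb_trans, eB]), hB]
  have pick : ∀ (v : ℕ) (hv : v + 3 ≤ n + 1) (S : Finset (Fin (n + 1))), S ⊆ win (n + 1) v (v + 3) →
      ∀ x ∈ fixS F 2 S, ∃ A, x = emb hσ (winEmb v hv) A := fun v hv S hS x hx => by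
    obtain ⟨A, e⟩ := emb_surj hσ (winEmb v hv) (g := x) (fixS_mono (by rw [winEmb_map]; exact hS) hx)
    exact ⟨A, e.symm⟩
  -- triples land in their subgroups
  have inV : ∀ w (h : w + 4 ≤ n + 1) (v : ℕ), v + 3 ≤ n + 1 → (v = w ∨ v = w + 1) →
      ∀ (x : fixS F 2 (win (n + 1) w (w + 4))), x.1 ∈ fixS F 2 (win (n + 1) v (v + 3)) → θ w h x ∈ Vx v := by
    intro w h v hv hvw x hx
    obtain ⟨A, e⟩ := pick v hv _ subset_rfl x.1 hx
    rw [three w h v hv hvw A x e, ← (hspec v (by omega)).range]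
    exact ⟨A, rfl⟩
  by_cases hn4 : n + 1 < 4
  · omega
  obtain ⟨Φ, hΦ⟩ := chain4 hσ hc (by omega) θ
    (fun w h x h1' h2' hx => by
      obtain ⟨A, e⟩ := pick (w + 1) (by omega) _ (win_mono le_rfl (by omega)) x hx
      rw [three w (by omega) (w + 1) (by omega) (Or.inr rfl) A ⟨x, h1'⟩ e,
        three (w + 1) (by omega) (w + 1) (by omega) (Or.inl rfl) A ⟨x, h2'⟩ e])
    (fun k hk4 hk Φ hΦ x y hxy => by
      have hlow : ∀ s, s + 3 ≤ k → ∀ g (hg : g ∈ fixS F 2 (below (n + 1) k)), g ∈ fixS F 2 (win (n + 1) s (s + 3)) →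
          Φ ⟨g, hg⟩ ∈ Vx s := by
        intro s hs g hg hgs
        have hg4 : g ∈ fixS F 2 (win (n + 1) (min s (k - 4)) (min s (k - 4) + 4)) :=
          fixS_mono (win_mono (by omega) (by omega)) hgs
        rw [show (⟨g, hg⟩ : fixS F 2 (below (n + 1) k)) = ⟨g, fixS_mono (win_below (by omega)) hg4⟩ from rfl,
          hΦ (min s (k - 4)) (by omega) ⟨g, hg4⟩]
        exact inV _ _ s (by omega) (by omega) _ hgs
      -- triples commuting with the image of `y` give all of the first coordinates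
      have key : ∀ m, 3 ≤ m → m ≤ k →
          (∀ s, s + 3 ≤ m → ∀ z ∈ Vx s, z * θ (k - 3) (by omega) y = θ (k - 3) (by omega) y * z) →
          x.1 ∈ fixS F 2 (below (n + 1) m) → Commute (Φ x) (θ (k - 3) (by omega) y) := by
        intro m hm3 hm hs hx
        let H : Subgroup (Cfsg.SU (n + 1) F 2) :=
          ((Subgroup.centralizer {θ (k - 3) (by omega) y}).comap Φ).map (fixS F 2 (below (n + 1) k)).subtype
        have hH : fixS F 2 (below (n + 1) m) ≤ H := gen_triples hσ hc m hm3 (by omega) fun s hsm g hg => by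
          have hgk : g ∈ fixS F 2 (below (n + 1) k) := fixS_mono (win_below (by omega)) hg
          exact ⟨⟨g, hgk⟩, Subgroup.mem_centralizer_singleton_iff.2 (hs s hsm _ (hlow s (by omega) g hgk hg)), rfl⟩
        obtain ⟨z, hz, ez⟩ := hH hx
        obtain rfl : z = x := Subtype.ext ez
        exact Subgroup.mem_centralizer_singleton_iff.1 hz
      rcases hxy with ⟨hx, hy⟩ | ⟨hx, hy⟩
      · -- the last pair lies in the last subgroup
        have hyU : θ (k - 3) (by omega) y ∈ Ux (k - 1) := by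
          obtain ⟨y', e⟩ := emb_surj hσ (f12.trans (winEmb (k - 2) (show k - 2 + 3 ≤ n + 1 by omega))) (g := y.1)
            (fixS_mono (fun a ha => by
              rw [mem_win] at ha
              refine Finset.mem_map.2 ⟨⟨a.val - (k - 1), by omega⟩, Finset.mem_univ _, Fin.ext ?_⟩
              show k - 2 + (a.val - (k - 1) + 1) = a.val
              omega) hy)
          rw [three (k - 3) (by omega) (k - 2) (by omega) (Or.inr (by omega)) (low hσ y') y
            (e.symm.trans (emb_trans hσ _ _ y').symm), show k - 1 = k - 2 + 1 by omega, ← (hspec (k - 2) (by omega)).low_eq]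
          exact ⟨y', rfl⟩
        refine key (k - 1) (by omega) (by omega) (fun s hs z hz => ?_) hx
        rw [hV s (by omega)] at hz
        rw [hU (k - 1) (by omega)] at hyU
        exact (h5 ⟨k - 1, by omega⟩ _ _ rfl (Or.inr (show s + 1 + 2 ≤ k - 1 by omega)) _ hyU z hz).symm
      · have hyV : θ (k - 3) (by omega) y ∈ Vx (k - 2) :=
          inV (k - 3) (by omega) (k - 2) (by omega) (Or.inr (by omega)) y (fixS_mono (win_mono le_rfl (by omega)) hy)
        rw [hV (k - 2) (by omega)] at hyV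
        rcases (show k = 4 ∨ 5 ≤ k by omega) with rfl | hk5
        · -- only one pair
          obtain ⟨x', e⟩ := emb_surj hσ (f01.trans (winEmb 0 (show 0 + 3 ≤ n + 1 by omega))) (g := x.1)
            (fixS_mono (fun a ha => by
              rw [mem_below] at ha
              refine Finset.mem_map.2 ⟨⟨a.val, by omega⟩, Finset.mem_univ _, Fin.ext ?_⟩
              show 0 + a.val = a.val
              omega) hx)
          have hx4 : x.1 ∈ fixS F 2 (win (n + 1) 0 (0 + 4)) := fixS_mono (by rw [← win_zero]) x.2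
          have hxU : Φ x ∈ Ux 0 := by
            rw [show x = ⟨x.1, fixS_mono (win_below le_rfl) hx4⟩ from rfl, hΦ 0 le_rfl ⟨x.1, hx4⟩,
              three 0 (by omega) 0 (by omega) (Or.inl rfl) (upp hσ x') ⟨x.1, hx4⟩
                (e.symm.trans (emb_trans hσ _ _ x').symm), ← (hspec 0 (by omega)).upp_eq]
            exact ⟨x', rfl⟩
          rw [hU 0 (by omega)] at hxU
          exact h5 ⟨0, by omega⟩ _ _ rfl (Or.inl (show 0 + 2 ≤ 4 - 2 by omega)) _ hxU _ hyV
        · refine key (k - 2) (by omega) (by omega) (fun s hs z hz => ?_) hx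
          rw [hV s (by omega)] at hz
          exact h6 _ _ ⟨k - 2, by omega⟩ _ rfl rfl (show s + 1 + 2 ≤ k - 2 by omega) z hz _ hyV)
  refine ⟨Φ, fun i j hij => ?_⟩
  obtain ⟨w, hw⟩ := i
  obtain ⟨v, hv⟩ := j
  obtain rfl : w + 1 = v := hij
  have P := hspec w (by omega)
  rw [hV w hv, hU w hw, hU (w + 1) hv] at P
  refine ⟨?_, ?_, ?_⟩
  · rw [← P.range]
    rintro _ ⟨A, rfl⟩
    obtain ⟨u, hu, huw⟩ : ∃ u, u + 4 ≤ n + 1 ∧ (w = u ∨ w = u + 1) := by
      by_cases h : w + 4 ≤ n + 1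
      · exact ⟨w, h, Or.inl rfl⟩
      · exact ⟨w - 1, by omega, Or.inr (by omega)⟩
    have hmem : emb hσ (winEmb w (show w + 3 ≤ n + 1 by omega)) A ∈ fixS F 2 (win (n + 1) u (u + 4)) :=
      fixS_mono (by rw [winEmb_map]; exact win_mono (by omega) (by omega)) (emb_mem hσ _ A)
    exact ⟨_, (hΦ u hu ⟨_, hmem⟩).trans (three u hu w (by omega) huw A _ rfl)⟩
  · rw [← P.range, ← P.upp_eq]
    rintro _ ⟨y, rfl⟩
    exact ⟨_, rfl⟩
  · rw [← P.range, ← P.low_eq]
    rintro _ ⟨y, rfl⟩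
    exact ⟨_, rfl⟩

end CfsgLib.Phan
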