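import Cfsg.Agent.Lib.KnownB.Phan.Q2.Rank
import Cfsg.Agent.Lib.KnownB.Phan.Adjust

/-!
# Standard pairs over the field with four elements
-/

set_option autoImplicit false
set_option linter.unusedSectionVars false

open Matrix CfsgLib.Classical CfsgLib.SUPres

namespace CfsgLib.Phan.Q2

/-- Generators of the two-dimensional group. -/
structure Gens (F : Type*) [Field F] where
  ω : F
  i : Cfsg.SU 2 F 2
  j : Cfsg.SU 2 F 2
  hω : ω * ω + ω + 1 = 0
  i0 : i.1.1 0 0 = ω
  i1 : i.1.1 0 1 = 0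
  j0 : j.1.1 0 0 = 0
  j1 : j.1.1 0 1 = 1
  iii : i * i * i = 1
  jj : j * j = 1
  jij : j * i * j = i * i

variable {F : Type*} [Field F] [Fintype F] {σ : F →+* F} {G : Type*} [Group G]
variable (hF : Fintype.card F = 2 ^ 2) (hσ : ∀ x, σ x = x ^ 2) (hc : IsConjugation σ)
include hF hσ hc

theorem exists_Gens : Nonempty (Gens F) := by
  obtain ⟨ω, hω⟩ := exists_omega hF
  obtain ⟨i, j, h1, h2, h3, h4, h5, h6, h7⟩ := exists_gens hF hσ hc hω
  exact ⟨⟨ω, i, j, hω, h1, h2, h3, h4, h5, h6, h7⟩⟩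

theorem Gens.i_ne (E : Gens F) : E.i ≠ 1 := fun e => by
  have h := E.i0
  rw [e] at h
  exact omega_ne_one hF E.hω (by simpa using h.symm)

/-- Relations between the two tori and the two involutions. -/
theorem pair_rels (E : Gens F) :
    upp hσ E.i * low hσ E.i = low hσ E.i * upp hσ E.i ∧
      upp hσ E.j * low hσ E.i * upp hσ E.j = upp hσ E.i * low hσ E.i ∧
      low hσ E.j * upp hσ E.i * low hσ E.j = upp hσ E.i * low hσ E.i := by
  obtain ⟨hω0, hω3⟩ := omega_facts E.hω
  have hσω : σ E.ω = E.ω * E.ω := by rw [hσ, sq]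
  obtain ⟨i2, i3⟩ := su2_row hσ E.i
  obtain ⟨j2, j3⟩ := su2_row hσ E.j
  rw [E.i0, hσω] at i2; rw [E.i1, map_zero, neg_zero] at i3
  rw [E.j0, map_zero] at j2; rw [E.j1, map_one] at j3
  have e : ∀ x y : Cfsg.SU 3 F 2, x.1.1 = y.1.1 → x = y := fun x y h => Subtype.ext (Subtype.ext h)
  have h2 := two_zero hF
  refine ⟨e _ _ ?_, e _ _ ?_, e _ _ ?_⟩
  · show (upp hσ E.i).1.1 * (low hσ E.i).1.1 = (low hσ E.i).1.1 * (upp hσ E.i).1.1
    rw [upp_entries, low_entries]
    ext r s
    fin_cases r <;> fin_cases s <;> simp [Matrix.mul_apply, Fin.sum_univ_three, E.i0, E.i1, i2, i3, mul_comm]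
  · show (upp hσ E.j).1.1 * (low hσ E.i).1.1 * (upp hσ E.j).1.1 = (upp hσ E.i).1.1 * (low hσ E.i).1.1
    rw [upp_entries, low_entries, upp_entries]
    ext r s
    fin_cases r <;> fin_cases s <;>
      simp [Matrix.mul_apply, Fin.sum_univ_three, E.i0, E.i1, i2, i3, E.j0, E.j1, j2, j3]
    · linear_combination -E.ω * h2
    · linear_combination -hω3 - h2
  · show (low hσ E.j).1.1 * (upp hσ E.i).1.1 * (low hσ E.j).1.1 = (upp hσ E.i).1.1 * (low hσ E.i).1.1
    rw [upp_entries, low_entries, low_entries]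
    ext r s
    fin_cases r <;> fin_cases s <;>
      simp [Matrix.mul_apply, Fin.sum_univ_three, E.i0, E.i1, i2, i3, E.j0, E.j1, j2, j3]
    · linear_combination -hω3 - h2
    · linear_combination -(E.ω * E.ω) * h2

variable {ψ χ : Cfsg.SU 3 F 2 →* G} {V W A B C : Subgroup G}

/-- Neighbouring pairs are groups isomorphic to the three-dimensional unitary group. -/
theorem pairs_injective (P : PairSpec hσ ψ V A B) (R : PairSpec hσ χ W B C)
    (hag : ∀ y, χ (upp hσ y) = ψ (low hσ y)) (hcomm : ∀ x ∈ A, ∀ y ∈ C, x * y = y * x) :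
    Function.Injective ψ ∧ Function.Injective χ := by
  obtain ⟨E⟩ := exists_Gens hF hσ hc
  obtain ⟨r1, r2, r3⟩ := pair_rels hF hσ hc E
  have hneψ : ψ (upp hσ E.i) ≠ ψ (low hσ E.i) := fun e => by
    -- the middle torus would be centralised by the last subgroup
    have h := congrArg χ r3
    rw [map_mul, map_mul, map_mul, hag, ← e] at h
    have hc' := hcomm _ (P.upp_eq ▸ ⟨E.i, rfl⟩ : ψ (upp hσ E.i) ∈ A) _ (R.low_eq ▸ ⟨E.j, rfl⟩ : χ (low hσ E.j) ∈ C)
    rw [← hc', mul_assoc, ← map_mul, ← map_mul, E.jj, map_one, map_one, mul_one] at h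
    exact E.i_ne hF hσ hc (low_injective hσ R hF ((left_eq_mul.1 h).trans (map_one _).symm))
  have hneχ : χ (upp hσ E.i) ≠ χ (low hσ E.i) := fun e => by
    have h := congrArg ψ r2
    rw [map_mul, map_mul, map_mul, ← hag, e] at h
    have hc' := hcomm _ (P.upp_eq ▸ ⟨E.j, rfl⟩ : ψ (upp hσ E.j) ∈ A) _ (R.low_eq ▸ ⟨E.i, rfl⟩ : χ (low hσ E.i) ∈ C)
    rw [hc', mul_assoc, ← map_mul, ← map_mul, E.jj, map_one, map_one, mul_one] at h
    exact E.i_ne hF hσ hc (upp_injective hσ P hF ((right_eq_mul.1 h).trans (map_one _).symm))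
  have inj : ∀ f : Cfsg.SU 3 F 2 →* G, f.ker ≤ Subgroup.center (Cfsg.SU 3 F 2) → f (upp hσ E.i) ≠ f (low hσ E.i) →
      Function.Injective f := by
    intro f hf hne
    refine (injective_iff_map_eq_one _).2 fun x hx => ?_
    obtain ⟨hω0, hω3⟩ := omega_facts E.hω
    obtain ⟨c, e⟩ := center_scalar hσ (q := 2) hF (by norm_num) (hf hx)
    have hdet := x.1.2
    rw [e, det_smul, det_one, mul_one, Fintype.card_fin] at hdet
    by_contra hx1
    have hc1 : c ≠ 1 := fun h => hx1 (Subtype.ext (Subtype.ext (by rw [e, h, one_smul]; rfl)))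
    refine hne ?_
    -- the quotient of the tori is a scalar matrix
    obtain ⟨i2, i3⟩ := su2_row hσ E.i
    rw [E.i0, hσ] at i2; rw [E.i1, map_zero, neg_zero] at i3
    have hmem : upp hσ E.i * (low hσ E.i * low hσ E.i) = x ∨ upp hσ E.i * (low hσ E.i * low hσ E.i) = x * x := by
      have hs : (upp hσ E.i * (low hσ E.i * low hσ E.i)).1.1 = E.ω • 1 := by
        show (upp hσ E.i).1.1 * ((low hσ E.i).1.1 * (low hσ E.i).1.1) = _
        rw [upp_entries, low_entries]
        ext r s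
        fin_cases r <;> fin_cases s <;> simp [Matrix.mul_apply, Fin.sum_univ_three, E.i0, E.i1, i2, i3]
        · linear_combination E.ω * hω3
        · linear_combination E.ω * hω3
      have : (c - 1) * ((c - E.ω) * (c - E.ω * E.ω)) = 0 := by
        linear_combination hdet + (-c * c + c) * E.hω + (c - 1) * hω3
      rcases mul_eq_zero.1 ((mul_eq_zero.1 this).resolve_left (sub_ne_zero.2 hc1)) with h | h
      · exact Or.inl (Subtype.ext (Subtype.ext (by rw [hs, e, sub_eq_zero.1 h])))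
      · refine Or.inr (Subtype.ext (Subtype.ext ?_))
        show _ = x.1.1 * x.1.1
        rw [hs, e, Matrix.smul_mul, Matrix.mul_smul, mul_one, smul_smul, sub_eq_zero.1 h]
        congr 1
        linear_combination -E.ω * hω3
    have h1 : f (upp hσ E.i) * (f (low hσ E.i) * f (low hσ E.i)) = 1 := by
      rw [← map_mul, ← map_mul]
      rcases hmem with h | h <;> rw [h]
      · exact hx
      · rw [map_mul, hx, mul_one]
    have h3 : f (low hσ E.i) * f (low hσ E.i) * f (low hσ E.i) = 1 := by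
      rw [← map_mul, ← map_mul, ← map_mul, ← map_mul, E.iii, map_one, map_one]
    calc f (upp hσ E.i) = f (upp hσ E.i) * (f (low hσ E.i) * f (low hσ E.i) * f (low hσ E.i)) := by rw [h3, mul_one]
      _ = f (upp hσ E.i) * (f (low hσ E.i) * f (low hσ E.i)) * f (low hσ E.i) := (mul_assoc _ _ _).symm
      _ = _ := by rw [h1, one_mul]
  exact ⟨inj ψ P.ker hneψ, inj χ R.ker hneχ⟩

/-- An element commuting with the generators of both blocks is scalar. -/
theorem centraliser_blocks (E : Gens F) {y : Cfsg.SU 3 F 2} (cu : Commute y (upp hσ E.i))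
    (cj : Commute y (upp hσ E.j)) (cl : Commute y (low hσ E.j)) : y.1.1 = y.1.1 0 0 • 1 := by
  obtain ⟨hω0, hω3⟩ := omega_facts E.hω
  have hω1 := omega_ne_one hF E.hω
  have hω2 : E.ω * E.ω ≠ 1 := fun h => hω1 (by rw [h, one_mul] at hω3; exact hω3)
  obtain ⟨i2, i3⟩ := su2_row hσ E.i
  obtain ⟨j2, j3⟩ := su2_row hσ E.j
  rw [E.i0, hσ] at i2; rw [E.i1, map_zero, neg_zero] at i3
  rw [E.j0, map_zero] at j2; rw [E.j1, map_one] at j3
  have eu : y.1.1 * (upp hσ E.i).1.1 = (upp hσ E.i).1.1 * y.1.1 :=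
    congrArg (fun z : Cfsg.SU 3 F 2 => z.1.1) cu.eq
  have ej : y.1.1 * (upp hσ E.j).1.1 = (upp hσ E.j).1.1 * y.1.1 :=
    congrArg (fun z : Cfsg.SU 3 F 2 => z.1.1) cj.eq
  have el : y.1.1 * (low hσ E.j).1.1 = (low hσ E.j).1.1 * y.1.1 :=
    congrArg (fun z : Cfsg.SU 3 F 2 => z.1.1) cl.eq
  rw [upp_entries] at eu ej
  rw [low_entries] at el
  have ent : ∀ (M : Matrix (Fin 3) (Fin 3) F), y.1.1 * M = M * y.1.1 → ∀ r s, (y.1.1 * M) r s = (M * y.1.1) r s :=
    fun M h r s => by rw [h]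
  have a01 := ent _ eu 0 1
  have a02 := ent _ eu 0 2
  have a10 := ent _ eu 1 0
  have a12 := ent _ eu 1 2
  have a20 := ent _ eu 2 0
  have a21 := ent _ eu 2 1
  have b01 := ent _ ej 0 1
  have c12 := ent _ el 1 2
  simp [Matrix.mul_apply, Fin.sum_univ_three, E.i0, E.i1, i2, i3, E.j0, E.j1, j2, j3] at a01 a02 a10 a12 a20 a21 b01 c12
  have hwne : E.ω ^ 2 ≠ E.ω := fun h => hω1 (mul_right_cancel₀ hω0 (by linear_combination h))
  have hw2 : E.ω ^ 2 ≠ 1 := by rwa [sq]
  have z01 : y.1.1 0 1 = 0 := by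
    by_contra h
    exact hwne (mul_left_cancel₀ h (by linear_combination a01))
  have z10 : y.1.1 1 0 = 0 := by
    by_contra h
    exact hwne (mul_left_cancel₀ h (by linear_combination -a10))
  have z02 : y.1.1 0 2 = 0 := by
    by_contra h
    exact hω1 (mul_left_cancel₀ h (by linear_combination -a02))
  have z12 : y.1.1 1 2 = 0 := by
    by_contra h
    exact hw2 (mul_left_cancel₀ h (by linear_combination -a12))
  have z20 : y.1.1 2 0 = 0 := by
    by_contra h
    exact hω1 (mul_left_cancel₀ h (by linear_combination a20))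
  have z21 : y.1.1 2 1 = 0 := by
    by_contra h
    exact hw2 (mul_left_cancel₀ h (by linear_combination a21))
  have hscal : y.1.1 = y.1.1 0 0 • 1 := by
    have e11 : y.1.1 1 1 = y.1.1 0 0 := by linear_combination -b01
    have e22 : y.1.1 2 2 = y.1.1 0 0 := by linear_combination -c12 + e11
    ext r s
    fin_cases r <;> fin_cases s <;> simp [z01, z02, z10, z12, z20, z21, e11, e22]
  exact hscal

/-- Two embeddings with the same image agreeing on both blocks are equal. -/
theorem embedding_eq {f g : Cfsg.SU 3 F 2 →* G} (hf : Function.Injective f) (hg : Function.Injective g)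
    (hr : f.range = g.range) (h1 : ∀ y, f (upp hσ y) = g (upp hσ y)) (h2 : ∀ y, f (low hσ y) = g (low hσ y)) : f = g := by
  classical
  let e : Cfsg.SU 3 F 2 ≃* Cfsg.SU 3 F 2 :=
    (MonoidHom.ofInjective hf).trans ((MulEquiv.subgroupCongr hr).trans (MonoidHom.ofInjective hg).symm)
  have he : ∀ x, g (e x) = f x := fun x =>
    congrArg Subtype.val ((MonoidHom.ofInjective hg).apply_symm_apply (MulEquiv.subgroupCongr hr (MonoidHom.ofInjective hf x)))
  let K : Subgroup (Cfsg.SU 3 F 2) := e.toMonoidHom.eqLocus (MonoidHom.id _)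
  have k1 : ∀ y, upp hσ y ∈ K := fun y => hg ((he _).trans (h1 y))
  have k2 : ∀ y, low hσ y ∈ K := fun y => hg ((he _).trans (h2 y))
  -- conjugates of the generators stay in the fixed subgroup
  obtain ⟨E⟩ := exists_Gens hF hσ hc
  obtain ⟨π, hπ⟩ := exists_quot hF hσ hc
  have hPK : π.ker ≤ K := hπ K k1 k2
  have hcz : ∀ (x t : Cfsg.SU 3 F 2), (t * t = 1 ∨ t * t * t = 1) → t ∈ K → Commute (x⁻¹ * e x) t := by
    intro x t ht htK
    have hconj : x * t * x⁻¹ ∈ K := by
      have hcen : π x * π t * (π x)⁻¹ * (π t)⁻¹ = 1 := by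
        have h : π t * π t = 1 ∨ π t * π t * π t = 1 := by
          rcases ht with h | h
          · left; rw [← map_mul, h, map_one]
          · right; rw [← map_mul, ← map_mul, h, map_one]
        exact (by decide +kernel : ∀ u v : QuaternionGroup 2, (v * v = 1 ∨ v * v * v = 1) → u * v * u⁻¹ * v⁻¹ = 1) _ _ h
      have hk : x * t * x⁻¹ * t⁻¹ ∈ π.ker := by
        rw [MonoidHom.mem_ker, map_mul, map_mul, map_mul, map_inv, map_inv, hcen]
      have := mul_mem (hPK hk) htK
      rwa [inv_mul_cancel_right] at this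
    have h := (show e (x * t * x⁻¹) = x * t * x⁻¹ from hconj)
    rw [map_mul, map_mul, map_inv, show e t = t from htK] at h
    rw [Commute, SemiconjBy]
    calc x⁻¹ * e x * t = x⁻¹ * (e x * t * (e x)⁻¹) * e x := by group
      _ = x⁻¹ * (x * t * x⁻¹) * e x := by rw [h]
      _ = t * (x⁻¹ * e x) := by group
  refine MonoidHom.ext fun x => ?_
  rw [← he x]
  congr 1
  -- the quotient is a scalar
  obtain ⟨y, hy⟩ : ∃ y, y = x⁻¹ * e x := ⟨_, rfl⟩
  have hy' : e x = x * y := by rw [hy, mul_inv_cancel_left]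
  have cu : Commute y (upp hσ E.i) := hy ▸ hcz x _ (Or.inr (by rw [← map_mul, ← map_mul, E.iii, map_one])) (k1 _)
  have cj : Commute y (upp hσ E.j) := hy ▸ hcz x _ (Or.inl (by rw [← map_mul, E.jj, map_one])) (k1 _)
  have cl : Commute y (low hσ E.j) := hy ▸ hcz x _ (Or.inl (by rw [← map_mul, E.jj, map_one])) (k2 _)
  have hscal := centraliser_blocks hF hσ hc E cu cj cl
  have hcy : Commute x y := Subtype.ext (Subtype.ext (by
    show x.1.1 * y.1.1 = y.1.1 * x.1.1
    rw [hscal, Matrix.mul_smul, Matrix.smul_mul, mul_one, one_mul]))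
  have hy3 : y ^ 3 = 1 := by
    refine Subtype.ext (Subtype.ext ?_)
    show (y.1 ^ 3).1 = 1
    have hdet := y.1.2
    rw [hscal, det_smul, det_one, mul_one, Fintype.card_fin] at hdet
    rw [Matrix.SpecialLinearGroup.coe_pow, hscal, smul_pow, one_pow, hdet, one_smul]
  have h4 : e (x ^ 4) = x ^ 4 := pow_four_mem hF hσ hc K k1 k2 x
  rw [map_pow, hy', hcy.mul_pow, pow_succ y 3, hy3, one_mul, mul_eq_left] at h4
  rw [hy', h4, mul_one]

end CfsgLib.Phan.Q2
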