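import Cfsg.Agent.Lib.KnownB.Phan.Pair
import Cfsg.Agent.Lib.Classical.PSU32

/-!
# The small unitary groups over the field with four elements
-/

set_option autoImplicit false
set_option linter.unusedSectionVars false

open Matrix CfsgLib.Classical CfsgLib.SUPres

namespace CfsgLib.Phan.Q2

variable {F : Type*} [Field F] [Fintype F] (hF : Fintype.card F = 2 ^ 2)
include hF

theorem two_zero : (2 : F) = 0 := by
  have h4 : (Fintype.card F : F) = 0 := Nat.cast_card_eq_zero F
  rw [hF] at h4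
  push_cast at h4
  exact pow_eq_zero_iff two_ne_zero |>.1 (show (2 : F) ^ 2 = 0 by rw [← h4]; norm_num)

theorem cube_eq_one {x : F} (hx : x ≠ 0) : x * x * x = 1 := by
  have h := FiniteField.pow_card_sub_one_eq_one x hx
  rw [hF, show 2 ^ 2 - 1 = 3 by norm_num] at h
  linear_combination h

theorem exists_omega : ∃ ω : F, ω * ω + ω + 1 = 0 := by
  classical
  obtain ⟨ω, -, hω⟩ := Finset.exists_mem_notMem_of_card_lt_card
    (show ({0, 1} : Finset F).card < (Finset.univ : Finset F).card from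
      lt_of_le_of_lt Finset.card_le_two (by rw [Finset.card_univ, hF]; norm_num))
  simp only [Finset.mem_insert, Finset.mem_singleton, not_or] at hω
  exact ⟨ω, (mul_eq_zero.1 (show (ω - 1) * (ω * ω + ω + 1) = 0 by linear_combination cube_eq_one hF hω.1)).resolve_left
    (sub_ne_zero.2 hω.2)⟩

omit hF in
theorem omega_facts {ω : F} (h : ω * ω + ω + 1 = 0) : ω ≠ 0 ∧ ω * ω * ω = 1 :=
  ⟨fun e => by simp [e] at h, by linear_combination (ω - 1) * h⟩

theorem omega_ne_one {ω : F} (h : ω * ω + ω + 1 = 0) : ω ≠ 1 := fun e => by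
  rw [e] at h
  exact one_ne_zero (show (1 : F) = 0 by linear_combination h - two_zero hF)

variable {σ : F →+* F} (hσ : ∀ x, σ x = x ^ 2) (hc : IsConjugation σ)
include hσ hc

theorem norm_one {x : F} (hx : x ≠ 0) : x * σ x = 1 := by
  rw [hσ]; linear_combination cube_eq_one hF hx

theorem row_cases (y : Cfsg.SU 2 F 2) : y.1.1 0 0 = 0 ∨ y.1.1 0 1 = 0 := by
  obtain ⟨y1, y2⟩ := su2_row hσ y
  have h := y.1.2
  rw [det_fin_two, y1, y2] at h
  by_contra! hne
  rw [mul_neg, sub_neg_eq_add, norm_one hF hσ hc hne.1, norm_one hF hσ hc hne.2] at h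
  exact one_ne_zero (show (1 : F) = 0 by linear_combination two_zero hF - h)

/-- The diagonal and the monomial generator. -/
theorem exists_gens {ω : F} (hω : ω * ω + ω + 1 = 0) : ∃ i j : Cfsg.SU 2 F 2,
    i.1.1 0 0 = ω ∧ i.1.1 0 1 = 0 ∧ j.1.1 0 0 = 0 ∧ j.1.1 0 1 = 1 ∧ i * i * i = 1 ∧ j * j = 1 ∧ j * i * j = i * i := by
  obtain ⟨i, i0, i1⟩ := su2_mk (q := 2) hσ hc (a := ω) (b := 0) (by
    rw [norm_one hF hσ hc (omega_facts hω).1, zero_mul, add_zero])
  obtain ⟨j, j0, j1⟩ := su2_mk (q := 2) hσ hc (a := 0) (b := 1) (by simp)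
  obtain ⟨i2, i3⟩ := su2_row hσ i
  obtain ⟨j2, j3⟩ := su2_row hσ j
  rw [i0] at i2; rw [i1, map_zero, neg_zero] at i3
  rw [j0, map_zero] at j2; rw [j1, map_one] at j3
  have h3 := (omega_facts hω).2
  have e : ∀ x y : Cfsg.SU 2 F 2, (∀ r s, x.1.1 r s = y.1.1 r s) → x = y :=
    fun x y h => Subtype.ext (Subtype.ext (Matrix.ext h))
  refine ⟨i, j, i0, i1, j0, j1, e _ _ fun r s => ?_, e _ _ fun r s => ?_, e _ _ fun r s => ?_⟩
  · show (i.1.1 * i.1.1 * i.1.1) r s = (1 : Matrix (Fin 2) (Fin 2) F) r s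
    fin_cases r <;> fin_cases s <;> simp [Matrix.mul_apply, Fin.sum_univ_two, i0, i1, i2, i3]
    · exact h3
    · rw [hσ]; linear_combination (ω * ω * ω + 1) * h3
  · show (j.1.1 * j.1.1) r s = (1 : Matrix (Fin 2) (Fin 2) F) r s
    fin_cases r <;> fin_cases s <;> simp [Matrix.mul_apply, Fin.sum_univ_two, j0, j1, j2, j3]
    all_goals linear_combination -two_zero hF
  · show (j.1.1 * i.1.1 * j.1.1) r s = (i.1.1 * i.1.1) r s
    fin_cases r <;> fin_cases s <;> simp [Matrix.mul_apply, Fin.sum_univ_two, i0, i1, i2, i3, j0, j1, j2, j3] <;>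
      rw [hσ]
    · linear_combination -(ω ^ 2) * two_zero hF
    · linear_combination -ω * h3 - ω * two_zero hF

/-- Every element is a product of the generators. -/
theorem gen_two {ω : F} (hω : ω * ω + ω + 1 = 0) {i j : Cfsg.SU 2 F 2} (i0 : i.1.1 0 0 = ω) (i1 : i.1.1 0 1 = 0)
    (j0 : j.1.1 0 0 = 0) (j1 : j.1.1 0 1 = 1) {H : Subgroup (Cfsg.SU 2 F 2)} (hi : i ∈ H) (hj : j ∈ H)
    (y : Cfsg.SU 2 F 2) : y ∈ H := by
  have h2 := two_zero hF
  have ext2 : ∀ x y : Cfsg.SU 2 F 2, x.1.1 0 0 = y.1.1 0 0 → x.1.1 0 1 = y.1.1 0 1 → x = y := fun x y a b => by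
    obtain ⟨x1, x2⟩ := su2_row hσ x
    obtain ⟨y1, y2⟩ := su2_row hσ y
    refine Subtype.ext (Subtype.ext (Matrix.ext fun r s => ?_))
    fin_cases r <;> fin_cases s <;> simp [a, b, x1, x2, y1, y2]
  have diag : ∀ y : Cfsg.SU 2 F 2, y.1.1 0 1 = 0 → y ∈ H := fun y hy => by
    have hy0 : y.1.1 0 0 ≠ 0 := fun e => by
      have := y.1.2
      rw [det_fin_two, e, hy] at this
      simp at this
    obtain ⟨-, i3⟩ := su2_row hσ i
    rw [i1, map_zero, neg_zero] at i3
    have hpow : ∀ z, z = y.1.1 0 0 → z = 1 ∨ z = ω ∨ z = ω * ω := fun z hz => by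
      have hz3 := cube_eq_one hF (hz ▸ hy0)
      by_contra! hne
      have : (z - 1) * ((z - ω) * (z - ω * ω)) = 0 := by
        linear_combination hz3 + (-z * z + z) * hω + (z - 1) * (omega_facts hω).2
      rcases mul_eq_zero.1 this with e | e
      · exact hne.1 (sub_eq_zero.1 e)
      rcases mul_eq_zero.1 e with e | e
      · exact hne.2.1 (sub_eq_zero.1 e)
      · exact hne.2.2 (sub_eq_zero.1 e)
    rcases hpow _ rfl with e | e | e
    · rw [show y = 1 from ext2 y 1 e hy]; exact one_mem H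
    · rw [show y = i from ext2 y i (e.trans i0.symm) (hy.trans i1.symm)]; exact hi
    · rw [show y = i * i from ext2 y _
        (e.trans (by show _ = (i.1.1 * i.1.1) 0 0; simp [Matrix.mul_apply, Fin.sum_univ_two, i0, i1]))
        (hy.trans (by show _ = (i.1.1 * i.1.1) 0 1; simp [Matrix.mul_apply, Fin.sum_univ_two, i1]))]
      exact mul_mem hi hi
  rcases row_cases hF hσ hc y with h | h
  · obtain ⟨j2, j3⟩ := su2_row hσ j
    rw [j0, map_zero] at j2
    have h' : (y * j).1.1 0 1 = 0 := by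
      show (y.1.1 * j.1.1) 0 1 = 0
      simp [Matrix.mul_apply, Fin.sum_univ_two, h, j2]
    have := mul_mem (diag _ h') (inv_mem hj)
    rwa [mul_inv_cancel_right] at this
  · exact diag y h

theorem hom_eq_two {G : Type*} [Group G] {ω : F} (hω : ω * ω + ω + 1 = 0) {i j : Cfsg.SU 2 F 2} (i0 : i.1.1 0 0 = ω)
    (i1 : i.1.1 0 1 = 0) (j0 : j.1.1 0 0 = 0) (j1 : j.1.1 0 1 = 1) {f g : Cfsg.SU 2 F 2 →* G} (ei : f i = g i)
    (ej : f j = g j) : f = g :=
  MonoidHom.ext fun y => gen_two hF hσ hc hω i0 i1 j0 j1 (H := f.eqLocus g) ei ej y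

/-- An automorphism preserving the diagonal matrices is given by a field automorphism and a diagonal conjugation. -/
theorem aut_classify (γ : Cfsg.SU 2 F 2 ≃* Cfsg.SU 2 F 2)
    (hD : ∀ g : Cfsg.SU 2 F 2, g.1.1 0 1 = 0 → (γ g).1.1 0 1 = 0) :
    ∃ (τ : F ≃+* F) (d : F), d * σ d = 1 ∧
      ∀ g : Cfsg.SU 2 F 2, (γ g).1.1 0 0 = τ (g.1.1 0 0) ∧ (γ g).1.1 0 1 = d * τ (g.1.1 0 1) := by
  have h2 := two_zero hF
  obtain ⟨ω, hω⟩ := exists_omega hF
  obtain ⟨hω0, hω3⟩ := omega_facts hω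
  obtain ⟨i, j, i0, i1, j0, j1, hiii, hjj, -⟩ := exists_gens hF hσ hc hω
  obtain ⟨τ, hτ⟩ : ∃ τ : F ≃+* F, τ ω = (γ i).1.1 0 0 := by
    have hz : (γ i).1.1 0 0 ≠ 0 := fun e => by
      have := (γ i).1.2
      rw [det_fin_two, e, hD i i1] at this
      simp at this
    have h3 := cube_eq_one hF hz
    rcases mul_eq_zero.1 (show ((γ i).1.1 0 0 - 1) * (((γ i).1.1 0 0 - ω) * ((γ i).1.1 0 0 - ω * ω)) = 0 by
      linear_combination h3 + (-(γ i).1.1 0 0 * (γ i).1.1 0 0 + (γ i).1.1 0 0) * hω + ((γ i).1.1 0 0 - 1) * hω3) with e | e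
    · exfalso
      obtain ⟨g1, g2⟩ := su2_row hσ (γ i)
      have : γ i = 1 := Subtype.ext (Subtype.ext (Matrix.ext fun r s => by
        fin_cases r <;> fin_cases s <;> simp [sub_eq_zero.1 e, g1, g2, hD i i1]))
      rw [γ.map_eq_one_iff.1 this] at i0
      exact omega_ne_one hF hω (by simpa using i0.symm)
    rcases mul_eq_zero.1 e with e | e
    · exact ⟨RingEquiv.refl F, (sub_eq_zero.1 e).symm⟩
    · refine ⟨RingEquiv.ofRingHom σ σ (RingHom.ext hc.invol) (RingHom.ext hc.invol), ?_⟩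
      show σ ω = _
      rw [hσ, sub_eq_zero.1 e, sq]
  have hτσ : ∀ x, τ (σ x) = σ (τ x) := fun x => by rw [hσ, hσ, map_pow]
  have hj0 : (γ j).1.1 0 0 = 0 := (row_cases hF hσ hc _).resolve_right fun h => by
    obtain ⟨g1, g2⟩ := su2_row hσ (γ j)
    obtain ⟨j2, j3⟩ := su2_row hσ j
    have hne : (γ j).1.1 0 0 ≠ 0 := fun e => by
      have := (γ j).1.2
      rw [det_fin_two, e, h] at this
      simp at this
    have hsq : (γ j).1.1 0 0 * (γ j).1.1 0 0 = 1 := by
      have e := congrArg (fun x : Cfsg.SU 2 F 2 => x.1.1 0 0) (show γ j * γ j = 1 by rw [← map_mul, hjj, map_one])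
      change ((γ j).1.1 * (γ j).1.1) 0 0 = (1 : Matrix (Fin 2) (Fin 2) F) 0 0 at e
      simpa [Matrix.mul_apply, Fin.sum_univ_two, h] using e
    have h1 : (γ j).1.1 0 0 = 1 := by
      have : ((γ j).1.1 0 0 - 1) ^ 2 = 0 := by linear_combination hsq + (1 - (γ j).1.1 0 0) * h2
      exact sub_eq_zero.1 (eq_zero_of_pow_eq_zero this)
    have : γ j = 1 := Subtype.ext (Subtype.ext (Matrix.ext fun r s => by
      fin_cases r <;> fin_cases s <;> simp [h1, g1, g2, h]))
    rw [γ.map_eq_one_iff.1 this] at j1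
    simp at j1
  set d := (γ j).1.1 0 1 with hd
  have hdn : d * σ d = 1 := by
    obtain ⟨g1, g2⟩ := su2_row hσ (γ j)
    have h := (γ j).1.2
    rw [det_fin_two, g1, g2, hj0] at h
    linear_combination h
  refine ⟨τ, d, hdn, ?_⟩
  -- the elements satisfying the formula form a subgroup
  let H : Subgroup (Cfsg.SU 2 F 2) :=
    { carrier := {g | (γ g).1.1 0 0 = τ (g.1.1 0 0) ∧ (γ g).1.1 0 1 = d * τ (g.1.1 0 1)}
      one_mem' := by simp
      mul_mem' := fun {a b} ha hb => by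
        obtain ⟨a1, a2⟩ := su2_row hσ a
        obtain ⟨b1, b2⟩ := su2_row hσ b
        obtain ⟨c1, c2⟩ := su2_row hσ (γ a)
        obtain ⟨e1, e2⟩ := su2_row hσ (γ b)
        have m : ∀ x y : Cfsg.SU 2 F 2, (x * y).1.1 = x.1.1 * y.1.1 := fun _ _ => rfl
        simp only [Set.mem_setOf_eq, map_mul, m, Matrix.mul_apply, Fin.sum_univ_two, map_add, map_mul, ha.1, ha.2,
          hb.1, hb.2, b1, b2, e1, e2, map_neg, hτσ]
        constructor
        · linear_combination -(τ (a.1.1 0 1) * σ (τ (b.1.1 0 1))) * hdn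
        · ring
      inv_mem' := fun {a} ha => by
        have hinv : ∀ x : Cfsg.SU 2 F 2, x⁻¹.1.1 0 0 = σ (x.1.1 0 0) ∧ x⁻¹.1.1 0 1 = -x.1.1 0 1 := fun x => by
          obtain ⟨x1, -⟩ := su2_row hσ x
          show (x.1⁻¹).1 0 0 = _ ∧ (x.1⁻¹).1 0 1 = _
          rw [Matrix.SpecialLinearGroup.coe_inv, adjugate_fin_two, ← x1]
          exact ⟨rfl, rfl⟩
        simp only [Set.mem_setOf_eq, map_inv, (hinv _).1, (hinv _).2, ha.1, ha.2, map_neg, hτσ]
        constructor
        · trivial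
        · ring }
  intro g
  refine gen_two hF hσ hc hω i0 i1 j0 j1 (H := H) ⟨by rw [i0, hτ], by rw [i1, hD i i1, map_zero, mul_zero]⟩
    ⟨by rw [j0, hj0, map_zero], by rw [j1, map_one, mul_one]⟩ g

/-- The three-dimensional group maps onto a quaternion group with kernel inside the subgroup of the two blocks. -/
theorem exists_quot : ∃ π : Cfsg.SU 3 F 2 →* QuaternionGroup 2, ∀ H : Subgroup (Cfsg.SU 3 F 2),
    (∀ y, upp hσ y ∈ H) → (∀ y, low hσ y ∈ H) → π.ker ≤ H := by
  classical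
  obtain ⟨ω, hω⟩ := exists_omega hF
  obtain ⟨hω0, hω3⟩ := omega_facts hω
  obtain ⟨i, j, i0, i1, j0, j1, hiii, hjj, -⟩ := exists_gens hF hσ hc hω
  obtain ⟨-, -, N, hNn, hN9, -, ⟨eQ⟩⟩ := psu32_structure (F := F) hF
  let π : Cfsg.SU 3 F 2 →* QuaternionGroup 2 :=
    eQ.toMonoidHom.comp ((QuotientGroup.mk' N).comp (QuotientGroup.mk' _))
  have hcube : ∀ X : Cfsg.SU 3 F 2, X * X * X = 1 → X ∈ π.ker := fun X hX => by
    have : π X * π X * π X = 1 := by rw [← map_mul, ← map_mul, hX, map_one]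
    rw [MonoidHom.mem_ker]
    exact (by decide +kernel : ∀ u : QuaternionGroup 2, u * u * u = 1 → u = 1) _ this
  refine ⟨π, fun H h1 h2 => ?_⟩
  have hker : Nat.card π.ker = 27 := by
    have hπ : Function.Surjective π :=
      eQ.surjective.comp ((QuotientGroup.mk'_surjective N).comp (QuotientGroup.mk'_surjective _))
    have h := π.ker.card_mul_index
    rw [Subgroup.index_ker, MonoidHom.range_eq_top.2 hπ, Subgroup.card_top, Nat.card_eq_fintype_card (α := QuaternionGroup 2),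
      QuaternionGroup.card, Subgroup.card_eq_card_quotient_mul_card_subgroup (Subgroup.center (Cfsg.SU 3 F 2)),
      card_center_SU (n := 3) (q := 2) hF (by norm_num)] at h
    have h72 : Nat.card (Cfsg.SU 3 F 2 ⧸ Subgroup.center (Cfsg.SU 3 F 2)) = 72 := (psu32_structure (F := F) hF).1
    rw [h72, show Nat.gcd 3 (2 + 1) = 3 by norm_num] at h
    omega
  -- the torus and a cyclic permutation
  set a := upp hσ i
  set b := low hσ i
  set p := upp hσ j * low hσ j
  obtain ⟨i2, i3⟩ := su2_row hσ i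
  obtain ⟨j2, j3⟩ := su2_row hσ j
  rw [i0] at i2; rw [i1, map_zero, neg_zero] at i3
  rw [j0, map_zero] at j2; rw [j1, map_one] at j3
  have ea : a.1.1 = diagonal ![ω, σ ω, 1] := by
    rw [upp_entries]; ext r s; fin_cases r <;> fin_cases s <;> simp [i0, i1, i2, i3]
  have eb : b.1.1 = diagonal ![1, ω, σ ω] := by
    rw [low_entries]; ext r s; fin_cases r <;> fin_cases s <;> simp [i0, i1, i2, i3]
  have ep : p.1.1 0 0 = 0 := by
    show ((upp hσ j).1.1 * (low hσ j).1.1) 0 0 = 0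
    rw [upp_entries, low_entries]
    simp [Matrix.mul_apply, Fin.sum_univ_three, j0]
  have hp3 : p * p * p = 1 := by
    refine Subtype.ext (Subtype.ext ?_)
    show ((upp hσ j).1.1 * (low hσ j).1.1) * ((upp hσ j).1.1 * (low hσ j).1.1) * ((upp hσ j).1.1 * (low hσ j).1.1) = 1
    rw [upp_entries, low_entries]
    ext r s
    fin_cases r <;> fin_cases s <;> simp [Matrix.mul_apply, Fin.sum_univ_three, j0, j1, j2, j3]
    all_goals linear_combination -two_zero hF
  have hT : ∀ u v : Fin 3, (a ^ u.val * b ^ v.val).1.1 = diagonal (![ω, σ ω, 1] ^ u.val * ![1, ω, σ ω] ^ v.val) :=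
    fun u v => by
      show (a.1 ^ u.val * b.1 ^ v.val).1 = _
      rw [Matrix.SpecialLinearGroup.coe_mul, Matrix.SpecialLinearGroup.coe_pow, Matrix.SpecialLinearGroup.coe_pow,
        ea, eb, diagonal_pow, diagonal_pow, diagonal_mul_diagonal]
      rfl
  have cubea : a * a * a = 1 := by rw [← map_mul, ← map_mul, hiii, map_one]
  have cubeb : b * b * b = 1 := by rw [← map_mul, ← map_mul, hiii, map_one]
  let S : Subgroup (Cfsg.SU 3 F 2) := Subgroup.closure {a, b, p}
  have hSH : S ≤ H := (Subgroup.closure_le _).2 (by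
    rintro y (rfl | rfl | rfl)
    · exact h1 i
    · exact h2 i
    · exact mul_mem (h1 j) (h2 j))
  have hSk : S ≤ π.ker := (Subgroup.closure_le _).2 (by
    rintro y (rfl | rfl | rfl)
    · exact hcube _ cubea
    · exact hcube _ cubeb
    · exact hcube _ hp3)
  let toS : Option (Fin 3 × Fin 3) → S := fun uv => Option.casesOn (motive := fun _ => S) uv
    ⟨p, Subgroup.subset_closure (by simp)⟩ fun uv => ⟨a ^ uv.1.val * b ^ uv.2.val,
      mul_mem (pow_mem (Subgroup.subset_closure (by simp)) _) (pow_mem (Subgroup.subset_closure (by simp)) _)⟩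
  have hinj : Function.Injective toS := by
    have hd : ∀ u v : Fin 3, (a ^ u.val * b ^ v.val).1.1 0 0 = ω ^ u.val := fun u v => by
      rw [hT, diagonal_apply_eq]; simp
    have hd2 : ∀ u v : Fin 3, (a ^ u.val * b ^ v.val).1.1 2 2 = σ ω ^ v.val := fun u v => by
      rw [hT, diagonal_apply_eq]; simp
    have hne : ∀ (z : F), z * z + z + 1 = 0 → Function.Injective fun u : Fin 3 => z ^ u.val := fun z hz u v e => by
      have h1' := omega_ne_one hF hz
      obtain ⟨hz0, hz3⟩ := omega_facts hz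
      have h2' : z * z ≠ 1 := fun e => h1' (by
        have := hz3; rw [e, one_mul] at this; exact this)
      have h3' : z * z ≠ z := fun e => h1' (mul_right_cancel₀ hz0 (by rw [e, one_mul]))
      simp only at e
      fin_cases u <;> fin_cases v <;> simp [pow_two, h1', h2', h3', Ne.symm h1', Ne.symm h2', Ne.symm h3'] at e ⊢
    rintro (- | ⟨u, v⟩) (- | ⟨u', v'⟩) e
    · rfl
    · exfalso
      have := congrArg (fun z : S => z.1.1.1 0 0) e
      simp only [toS, ep, hd] at this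
      exact pow_ne_zero _ hω0 this.symm
    · exfalso
      have := congrArg (fun z : S => z.1.1.1 0 0) e
      simp only [toS, ep, hd] at this
      exact pow_ne_zero _ hω0 this
    · have e0 := congrArg (fun z : S => z.1.1.1 0 0) e
      have e2 := congrArg (fun z : S => z.1.1.1 2 2) e
      simp only [toS, hd, hd2] at e0 e2
      rw [hne ω hω e0, hne (σ ω) (by rw [← map_mul, ← map_add, ← map_one σ, ← map_add, hω, map_zero]) e2]
  have hge : 10 ≤ Nat.card S := by
    have h := Nat.card_le_card_of_injective _ hinj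
    simpa using h
  obtain ⟨k, hk, hSk'⟩ := (Nat.dvd_prime_pow (m := 3) Nat.prime_three).1
    (show Nat.card S ∣ 3 ^ 3 by rw [show 3 ^ 3 = Nat.card π.ker by rw [hker]; norm_num]; exact Subgroup.card_dvd_of_le hSk)
  have hcard : Nat.card π.ker ≤ Nat.card S := by
    rw [hker, hSk']
    rw [hSk'] at hge
    revert hge
    interval_cases k <;> norm_num
  rw [← Subgroup.eq_of_le_of_card_ge hSk hcard]
  exact hSH

/-- The fourth power of an element of the three-dimensional group lies in the subgroup of the two blocks. -/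
theorem pow_four_mem (H : Subgroup (Cfsg.SU 3 F 2)) (h1 : ∀ y, upp hσ y ∈ H) (h2 : ∀ y, low hσ y ∈ H)
    (x : Cfsg.SU 3 F 2) : x ^ 4 ∈ H := by
  obtain ⟨π, hπ⟩ := exists_quot hF hσ hc
  refine hπ H h1 h2 ?_
  rw [MonoidHom.mem_ker, map_pow]
  exact (by decide +kernel : ∀ u : QuaternionGroup 2, u ^ 4 = 1) _

end CfsgLib.Phan.Q2
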