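import Cfsg.Agent.Lib.KnownB.Phan.Q2.Pairs
import Cfsg.Agent.Lib.KnownB.Phan.Q2.Frame
import Cfsg.Agent.Lib.KnownB.Phan.Q3.Window

/-!
# Two adjusted standard pairs inside an image of the four-dimensional unitary group, four elements
-/

set_option autoImplicit false
set_option linter.unusedSectionVars false

open Matrix CfsgLib.Classical CfsgLib.SUPres
open scoped commutatorElement

namespace CfsgLib.Phan.Q2

open Q3 (fA fB)

variable {F : Type*} [Field F] [Fintype F] {σ : F →+* F} {G : Type*} [Group G]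
variable (hF : Fintype.card F = 2 ^ 2) (hσ : ∀ x, σ x = x ^ 2) (hc : IsConjugation σ)
include hF hσ hc

/-- A non-trivial homomorphism from the four-dimensional group is injective. -/
theorem injective_four (g : Cfsg.SU 4 F 2 →* G) {x : Cfsg.SU 4 F 2} (hx : g x ≠ 1) : Function.Injective g := by
  have hsimple : IsSimpleGroup (Cfsg.PSU 4 F 2) := Cfsg.Agent.S0283.result hF 4 (by norm_num) (by norm_num)
  have hperf : commutator (Cfsg.SU 4 F 2) = ⊤ := by
    have h := (stdHerm_isHermitian hc 4).sIsom_perfect (stdHerm_sepRight (σ := σ) 4)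
      (Or.inr (by rw [Module.finrank_fin_fun]))
    have h2 := congrArg (Subgroup.map (suEquiv (n := 4) hσ).symm.toMonoidHom) h
    rwa [map_commutator_eq, Subgroup.map_top_of_surjective _ (suEquiv (n := 4) hσ).symm.surjective,
      MonoidHom.range_eq_top.2 (suEquiv (n := 4) hσ).symm.surjective] at h2
  have hcen : ∀ z ∈ Subgroup.center (Cfsg.SU 4 F 2), z = 1 := fun z hz => by
    obtain ⟨c, e⟩ := center_scalar hσ (q := 2) hF (by norm_num) hz
    have hdet := z.1.2
    rw [e, det_smul, det_one, mul_one, Fintype.card_fin] at hdet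
    have h : (c - 1) ^ 4 = 0 := by
      linear_combination hdet + (-2 * c ^ 3 + 3 * c ^ 2 - 2 * c + 1) * two_zero hF
    exact Subtype.ext (Subtype.ext (by rw [e, sub_eq_zero.1 (eq_zero_of_pow_eq_zero h), one_smul]; rfl))
  haveI : (g.ker.map (QuotientGroup.mk' (Subgroup.center (Cfsg.SU 4 F 2)))).Normal :=
    Subgroup.Normal.map inferInstance _ (QuotientGroup.mk'_surjective _)
  refine (injective_iff_map_eq_one _).2 fun y hy => ?_
  rcases hsimple.eq_bot_or_eq_top_of_normal _ ‹_› with h | h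
  · have : QuotientGroup.mk' (Subgroup.center (Cfsg.SU 4 F 2)) y ∈ (⊥ : Subgroup _) := h ▸ Subgroup.mem_map_of_mem _ hy
    exact hcen y ((QuotientGroup.eq_one_iff y).1 (Subgroup.mem_bot.1 this))
  · exfalso
    have hall : ∀ a : Cfsg.SU 4 F 2, g a = 1 := fun a => by
      obtain ⟨k, hk, e⟩ := (h ▸ Subgroup.mem_top _ :
        QuotientGroup.mk' _ a ∈ g.ker.map (QuotientGroup.mk' (Subgroup.center (Cfsg.SU 4 F 2))))
      rw [← inv_mul_eq_one.1 (hcen _ (QuotientGroup.eq.1 e)), MonoidHom.mem_ker.1 hk]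
    exact hx (hall x)

/-- Automorphisms of the field agreeing on a primitive cube root of unity are equal. -/
theorem field_aut_eq {ω : F} (hω : ω * ω + ω + 1 = 0) {τ τ' : F ≃+* F} (h : τ ω = τ' ω) : τ = τ' := by
  refine RingEquiv.ext fun x => ?_
  by_cases hx : x = 0
  · simp [hx]
  rcases mul_eq_zero.1 (show (x - 1) * ((x - ω) * (x - ω * ω)) = 0 by
    linear_combination cube_eq_one hF hx + (-x * x + x) * hω + (x - 1) * (omega_facts hω).2) with e | e
  · simp [sub_eq_zero.1 e]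
  rcases mul_eq_zero.1 e with e | e
  · rw [sub_eq_zero.1 e, h]
  · rw [sub_eq_zero.1 e, map_mul, map_mul, h]

/-- The image of a three-dimensional group is the image of its three coordinates. -/
theorem range_eq {ψ : Cfsg.SU 3 F 2 →* G} (hψ : Function.Injective ψ) {g : Cfsg.SU 4 F 2 →* G}
    (hg : Function.Injective g) (hr : ψ.range ≤ g.range) (f : Fin 3 ↪ Fin 4) {k : Fin 4} (hk : ∀ r, k ≠ f r)
    (hu : ∀ y, ∃ y', g (emb hσ f (upp hσ y')) = ψ (upp hσ y))
    (hl : ∀ y, ∃ y', g (emb hσ f (low hσ y')) = ψ (low hσ y))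
    (hu' : ∀ y', ∃ y, g (emb hσ f (upp hσ y')) = ψ (upp hσ y))
    (hl' : ∀ y', ∃ y, g (emb hσ f (low hσ y')) = ψ (low hσ y)) :
    ψ.range = (g.comp (emb (q := 2) hσ f)).range := by
  classical
  obtain ⟨E⟩ := exists_Gens hF hσ hc
  obtain ⟨i2, i3⟩ := su2_row hσ E.i
  rw [E.i1, map_zero, neg_zero] at i3
  -- a central element of the three-dimensional group
  set z := upp hσ E.i * (low hσ E.i * low hσ E.i) with hz
  have hzs : z.1.1 = E.ω • 1 := by
    show (upp hσ E.i).1.1 * ((low hσ E.i).1.1 * (low hσ E.i).1.1) = _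
    rw [E.i0, hσ] at i2
    rw [upp_entries, low_entries]
    ext r s
    fin_cases r <;> fin_cases s <;> simp [Matrix.mul_apply, Fin.sum_univ_three, E.i0, E.i1, i2, i3]
    · linear_combination E.ω * (omega_facts E.hω).2
    · linear_combination E.ω * (omega_facts E.hω).2
  have zc : ∀ x, z * x = x * z := fun x => Subtype.ext (Subtype.ext (by
    show z.1.1 * x.1.1 = x.1.1 * z.1.1
    rw [hzs, Matrix.smul_mul, Matrix.mul_smul, one_mul, mul_one]))
  obtain ⟨a, ea⟩ := hu E.i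
  obtain ⟨b, eb⟩ := hl E.i
  set Y := upp hσ a * (low hσ b * low hσ b)
  have eY : g (emb hσ f Y) = ψ z := by
    rw [hz, map_mul, map_mul, map_mul, map_mul, map_mul, map_mul, ea, eb]
  have comm : ∀ y', (∃ x, g (emb hσ f y') = ψ x) → Commute Y y' := fun y' ⟨x, e⟩ => by
    refine emb_injective hσ f (hg ?_)
    rw [map_mul (emb hσ f) Y y', map_mul (emb hσ f) y' Y, map_mul g, map_mul g, eY, e, ← map_mul, ← map_mul, zc]
  have hY : Y.1.1 = Y.1.1 0 0 • 1 := centraliser_blocks hF hσ hc E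
    (comm _ (let ⟨y, e⟩ := hu' E.i; ⟨_, e⟩)) (comm _ (let ⟨y, e⟩ := hu' E.j; ⟨_, e⟩))
    (comm _ (let ⟨y, e⟩ := hl' E.j; ⟨_, e⟩))
  set lam := Y.1.1 0 0
  have hlam : lam ≠ 1 := fun h => by
    have : Y = 1 := Subtype.ext (Subtype.ext (by rw [hY, h, one_smul]; rfl))
    have e : z = 1 := hψ (by rw [← eY, this, map_one, map_one, map_one])
    have := congrArg (fun x : Cfsg.SU 3 F 2 => x.1.1 0 0) e
    simp [hzs] at this
    exact omega_ne_one hF E.hω this
  have hZ : (emb hσ f Y).1.1 = diagonal fun l => if l = k then 1 else lam := by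
    ext r s
    have cov : ∀ l, l ≠ k → ∃ t, l = f t := fun l hl => by
      have h1 : (Finset.univ.map f) = Finset.univ.erase k := Finset.eq_of_subset_of_card_le (fun x hx => by
        obtain ⟨t, -, rfl⟩ := Finset.mem_map.1 hx
        exact Finset.mem_erase.2 ⟨(hk t).symm, Finset.mem_univ _⟩) (by simp)
      obtain ⟨t, -, e⟩ := Finset.mem_map.1 (h1 ▸ Finset.mem_erase.2 ⟨hl, Finset.mem_univ _⟩ : l ∈ Finset.univ.map f)
      exact ⟨t, e.symm⟩
    by_cases hr : r = k
    · subst hr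
      rw [emb_off hσ f Y (Or.inl hk)]
      by_cases hs : r = s
      · subst hs; simp
      · simp [hs]
    by_cases hs : s = k
    · subst hs
      rw [emb_off hσ f Y (Or.inr hk)]
      simp [hr]
    obtain ⟨u, rfl⟩ := cov r hr
    obtain ⟨v, rfl⟩ := cov s hs
    rw [emb_apply, hY]
    simp [Matrix.one_apply, f.injective.eq_iff, hr, Matrix.diagonal_apply]
  -- preimages commute with it, so they split
  have pre : ∀ x, ∃ X, g X = ψ x := fun x => hr ⟨x, rfl⟩
  choose X hX using pre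
  have hXm : ∀ x y, X (x * y) = X x * X y := fun x y => hg (by rw [map_mul, hX, hX, hX, map_mul])
  have off : ∀ x l, l ≠ k → (X x).1.1 k l = 0 ∧ (X x).1.1 l k = 0 := fun x l hlk => by
    have e : emb hσ f Y * X x = X x * emb hσ f Y := hg (by rw [map_mul g (emb hσ f Y) (X x), map_mul g (X x) (emb hσ f Y), eY, hX, ← map_mul, ← map_mul, zc])
    have e' : (emb hσ f Y).1.1 * (X x).1.1 = (X x).1.1 * (emb hσ f Y).1.1 :=
      congrArg (fun y : Cfsg.SU 4 F 2 => y.1.1) e
    rw [hZ] at e'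
    have h1 := congrFun (congrFun e' k) l
    have h2 := congrFun (congrFun e' l) k
    rw [diagonal_mul, mul_diagonal] at h1 h2
    simp [hlk] at h1 h2
    constructor
    · by_contra h; exact hlam (mul_left_cancel₀ h (by linear_combination -h1))
    · by_contra h; exact hlam (mul_left_cancel₀ h (by linear_combination h2))
  have chi : ∀ x y, (X (x * y)).1.1 k k = (X x).1.1 k k * (X y).1.1 k k := fun x y => by
    rw [hXm]
    show ((X x).1.1 * (X y).1.1) k k = _
    rw [Matrix.mul_apply, Finset.sum_eq_single k]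
    · intro l _ hl'; rw [(off x l hl').1, zero_mul]
    · simp
  have hone : X 1 = 1 := hg (by rw [hX, map_one, map_one])
  have chi0 : ∀ x, (X x).1.1 k k ≠ 0 := fun x h => by
    have := chi x x⁻¹
    rw [mul_inv_cancel, hone, h, zero_mul] at this
    simp at this
  let H : Subgroup (Cfsg.SU 3 F 2) :=
    { carrier := {x | (X x).1.1 k k = 1}
      one_mem' := by simp [hone]
      mul_mem' := fun {x y} hx hy => by
        show (X (x * y)).1.1 k k = 1
        rw [chi, hx, hy, one_mul]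
      inv_mem' := fun {x} hx => by
        show (X x⁻¹).1.1 k k = 1
        have h := chi x x⁻¹
        rw [mul_inv_cancel, hone, show (X x).1.1 k k = 1 from hx, one_mul] at h
        simpa using h.symm }
  have blockH : ∀ x, (∃ y', g (emb hσ f y') = ψ x) → x ∈ H := fun x ⟨y', e⟩ => by
    show (X x).1.1 k k = 1
    rw [show X x = emb hσ f y' from hg (by rw [hX, e]), emb_off hσ f y' (Or.inl hk)]
    simp
  have allH : ∀ x, (X x).1.1 k k = 1 := fun x => by
    have h : (X (x * x * (x * x))).1.1 k k = 1 := by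
      have := pow_four_mem hF hσ hc H (fun y => blockH _ (let ⟨y', e⟩ := hu y; ⟨_, e⟩))
        (fun y => blockH _ (let ⟨y', e⟩ := hl y; ⟨_, e⟩)) x
      rwa [show x ^ 4 = x * x * (x * x) by rw [show (4 : ℕ) = 2 + 2 from rfl, pow_add, pow_two]] at this
    rw [chi, chi] at h
    linear_combination h - (X x).1.1 k k * cube_eq_one hF (chi0 x)
  have hle : ψ.range ≤ (g.comp (emb (q := 2) hσ f)).range := by
    rintro _ ⟨x, rfl⟩
    have hmem : X x ∈ fixS F 2 (Finset.univ.map f) := fun l hl => by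
      have hlk : l = k := by
        by_contra h
        refine hl ?_
        have h1 : (Finset.univ.map f) = Finset.univ.erase k := Finset.eq_of_subset_of_card_le (fun x hx => by
          obtain ⟨t, -, rfl⟩ := Finset.mem_map.1 hx
          exact Finset.mem_erase.2 ⟨(hk t).symm, Finset.mem_univ _⟩) (by simp)
        rw [h1]
        exact Finset.mem_erase.2 ⟨h, Finset.mem_univ _⟩
      subst hlk
      funext m
      rw [act_col hσ]
      by_cases hm : m = l
      · subst hm; rw [allH]; simp [ev]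
      · rw [(off x m hm).2]; simp [ev, hm]
    obtain ⟨A, e⟩ := emb_surj hσ f hmem
    exact ⟨A, by rw [MonoidHom.comp_apply, e, hX]⟩
  haveI : Finite (g.comp (emb (q := 2) hσ f)).range := Finite.of_surjective _ (MonoidHom.rangeRestrict_surjective _)
  refine Subgroup.eq_of_le_of_card_ge hle ?_
  rw [← Nat.card_congr (MonoidHom.ofInjective hψ).toEquiv,
    ← Nat.card_congr (MonoidHom.ofInjective (f := g.comp (emb (q := 2) hσ f)) (hg.comp (emb_injective hσ f))).toEquiv]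

variable {ψ : Cfsg.SU 3 F 2 →* G} {V A B : Subgroup G}

theorem tau_eq {ψ4 : Cfsg.SU 3 F 2 →* G} (hinj : Function.Injective ψ4) (E : Gens F)
    {γ δ : Cfsg.SU 2 F 2 → Cfsg.SU 2 F 2}
    (hγ : ∀ y, ψ4 (upp hσ (γ y)) = ψ (upp hσ y)) (hδ : ∀ y, ψ4 (low hσ (δ y)) = ψ (low hσ y)) {τ τ' : F ≃+* F} {d : F}
    (hd : d ≠ 0) (fγ : ∀ y, (γ y).1.1 0 1 = d * τ (y.1.1 0 1)) (fδ : ∀ y, (δ y).1.1 0 0 = τ' (y.1.1 0 0)) : τ = τ' := by
  obtain ⟨hω0, hω3⟩ := omega_facts E.hω
  obtain ⟨i2, i3⟩ := su2_row hσ E.i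
  rw [E.i0, hσ] at i2; rw [E.i1, map_zero, neg_zero] at i3
  obtain ⟨z, z0, z1⟩ := su2_mk (q := 2) hσ hc (a := 0) (b := E.ω * E.ω) (by
    rw [norm_one hF hσ hc (mul_ne_zero hω0 hω0)]; simp)
  obtain ⟨z2, z3⟩ := su2_row hσ z
  obtain ⟨j2, j3⟩ := su2_row hσ E.j
  rw [E.j0, map_zero] at j2; rw [E.j1, map_one] at j3
  rw [z0, map_zero] at z2; rw [z1, map_mul, hσ] at z3
  have hrel : low hσ E.i * upp hσ E.j = upp hσ z * low hσ E.i := by
    refine Subtype.ext (Subtype.ext ?_)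
    show (low hσ E.i).1.1 * (upp hσ E.j).1.1 = (upp hσ z).1.1 * (low hσ E.i).1.1
    rw [low_entries, upp_entries, upp_entries]
    ext r s
    fin_cases r <;> fin_cases s <;>
      simp [Matrix.mul_apply, Fin.sum_univ_three, E.i0, E.i1, i2, i3, E.j0, E.j1, j2, j3, z0, z1, z2, z3] <;>
      first | linear_combination hω3 | linear_combination -hω3 | linear_combination E.ω * hω3 |
        linear_combination -E.ω * hω3
  have h := congrArg ψ hrel
  rw [map_mul, map_mul, ← hδ, ← hγ, ← hγ, ← map_mul, ← map_mul] at h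
  have e := congrFun (congrFun (congrArg (fun x : Cfsg.SU 3 F 2 => x.1.1) (hinj h)) 0) 1
  change ((low hσ (δ E.i)).1.1 * (upp hσ (γ E.j)).1.1) 0 1 =
    ((upp hσ (γ z)).1.1 * (low hσ (δ E.i)).1.1) 0 1 at e
  rw [low_entries, upp_entries, upp_entries] at e
  simp [Matrix.mul_apply, Fin.sum_univ_three, fγ, fδ, z1, E.i0, E.j1] at e
  refine field_aut_eq hF hσ hc E.hω ?_
  have h0 : τ E.ω ≠ 0 := (map_ne_zero τ).2 hω0
  refine mul_left_cancel₀ (mul_ne_zero hd (mul_ne_zero h0 h0)) ?_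
  have t3 : τ E.ω * τ E.ω * τ E.ω = 1 := by rw [← map_mul, ← map_mul, hω3, map_one]
  linear_combination e + d * t3

/-- Two adjusted pairs come from one homomorphism of the four-dimensional group. -/
theorem window {χ : Cfsg.SU 3 F 2 →* G} {W C : Subgroup G} (P : PairSpec hσ ψ V A B) (R : PairSpec hσ χ W B C)
    (hag : ∀ y, χ (upp hσ y) = ψ (low hσ y)) (hcomm : ∀ x ∈ A, ∀ y ∈ C, x * y = y * x)
    (g : Cfsg.SU 4 F 2 →* G) (hVW : V ≤ g.range ∧ W ≤ g.range) :
    ∃ Φ : Cfsg.SU 4 F 2 →* G, (∀ x, Φ (emb hσ fA x) = ψ x) ∧ ∀ x, Φ (emb hσ fB x) = χ x := by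
  classical
  obtain ⟨E⟩ := exists_Gens hF hσ hc
  obtain ⟨iψ, iχ⟩ := pairs_injective hF hσ hc P R hag hcomm
  have hψ : ψ.range ≤ g.range := P.range ▸ hVW.1
  have hχ : χ.range ≤ g.range := R.range ▸ hVW.2
  obtain ⟨TA, eTA⟩ := hψ ⟨upp hσ E.i, rfl⟩
  obtain ⟨SA, eSA⟩ := hψ ⟨upp hσ E.j, rfl⟩
  obtain ⟨TB, eTB⟩ := hψ ⟨low hσ E.i, rfl⟩
  obtain ⟨SB, eSB⟩ := hψ ⟨low hσ E.j, rfl⟩
  obtain ⟨TC, eTC⟩ := hχ ⟨low hσ E.i, rfl⟩
  obtain ⟨SC, eSC⟩ := hχ ⟨low hσ E.j, rfl⟩
  have hne : ∀ (ι : Cfsg.SU 2 F 2 →* G), Function.Injective ι → ι E.i ≠ 1 := fun ι hi e =>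
    E.i_ne hF hσ hc (hi (e.trans (map_one ι).symm))
  have hg : Function.Injective g := injective_four hF hσ hc g (x := TA) (by
    rw [eTA]; exact hne (ψ.comp (upp hσ)) (upp_injective hσ P hF))
  have hac : ∀ x y, ψ (upp hσ x) * χ (low hσ y) = χ (low hσ y) * ψ (upp hσ x) := fun x y =>
    hcomm _ (P.upp_eq ▸ ⟨x, rfl⟩) _ (R.low_eq ▸ ⟨y, rfl⟩)
  have iiiU : upp hσ E.i * upp hσ E.i * upp hσ E.i = 1 := by rw [← map_mul, ← map_mul, E.iii, map_one]
  have iiiL : low hσ E.i * low hσ E.i * low hσ E.i = 1 := by rw [← map_mul, ← map_mul, E.iii, map_one]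
  have jjU : upp hσ E.j * upp hσ E.j = 1 := by rw [← map_mul, E.jj, map_one]
  have jjL : low hσ E.j * low hσ E.j = 1 := by rw [← map_mul, E.jj, map_one]
  have jijU : upp hσ E.j * upp hσ E.i * upp hσ E.j = upp hσ E.i * upp hσ E.i := by
    rw [← map_mul, ← map_mul, E.jij, map_mul]
  have jijL : low hσ E.j * low hσ E.i * low hσ E.j = low hσ E.i * low hσ E.i := by
    rw [← map_mul, ← map_mul, E.jij, map_mul]
  obtain ⟨r1, r2, r3⟩ := pair_rels hF hσ hc E
  obtain ⟨h, ⟨hTA, hSA⟩, ⟨hTB, hSB⟩, hTC, hSC⟩ := frame hF hσ hc TA TB TC SA SB SC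
    (hg (by rw [map_mul, map_mul, eTA, map_one, ← map_mul, ← map_mul, iiiU, map_one]))
    (hg (by rw [map_mul, map_mul, eTB, map_one, ← map_mul, ← map_mul, iiiL, map_one]))
    (hg (by rw [map_mul, map_mul, eTC, map_one, ← map_mul, ← map_mul, iiiL, map_one]))
    (fun e => hne (ψ.comp (upp hσ)) (upp_injective hσ P hF) (by rw [MonoidHom.comp_apply, ← eTA, e, map_one]))
    (fun e => hne (ψ.comp (low hσ)) (low_injective hσ P hF) (by rw [MonoidHom.comp_apply, ← eTB, e, map_one]))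
    (fun e => hne (χ.comp (low hσ)) (low_injective hσ R hF) (by rw [MonoidHom.comp_apply, ← eTC, e, map_one]))
    (hg (by rw [map_mul, map_mul, eTA, eTB, ← map_mul, ← map_mul, r1]))
    (hg (by rw [map_mul, map_mul, eTB, eTC, ← hag, ← map_mul, ← map_mul, r1]))
    (hg (by rw [map_mul, map_mul, eTA, eTC, hac]))
    (hg (by rw [map_mul, eSA, map_one, ← map_mul, jjU, map_one]))
    (hg (by rw [map_mul, eSB, map_one, ← map_mul, jjL, map_one]))
    (hg (by rw [map_mul, eSC, map_one, ← map_mul, jjL, map_one]))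
    (hg (by rw [map_mul, map_mul, map_mul, eSA, eTA, ← map_mul ψ, ← map_mul ψ, ← map_mul ψ, jijU]))
    (hg (by rw [map_mul, map_mul, map_mul, eSA, eTA, eTB, ← map_mul, ← map_mul, ← map_mul, r2]))
    (hg (by rw [map_mul, map_mul, eSA, eTC, hac]))
    (hg (by rw [map_mul, map_mul, map_mul, eSB, eTA, eTB, ← map_mul, ← map_mul, ← map_mul, r3]))
    (hg (by rw [map_mul, map_mul, map_mul, eSB, eTB, ← map_mul ψ, ← map_mul ψ, ← map_mul ψ, jijL]))
    (hg (by rw [map_mul, map_mul, map_mul, eSB, eTB, eTC, ← hag, ← hag, ← map_mul, ← map_mul, ← map_mul, r2]))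
    (hg (by rw [map_mul, map_mul, eSC, eTA, hac]))
    (hg (by rw [map_mul, map_mul, map_mul, eSC, eTB, eTC, ← hag, ← map_mul, ← map_mul, ← map_mul, r3]))
    (hg (by rw [map_mul, map_mul, map_mul, eSC, eTC, ← map_mul χ, ← map_mul χ, ← map_mul χ, jijL]))
  let e : Cfsg.SU 4 F 2 ≃* Cfsg.SU 4 F 2 := MulAut.conj h
  set g' := g.comp e.toMonoidHom with hg'
  have ig' : Function.Injective g' := hg.comp e.injective
  have hrange : g'.range = g.range := by
    rw [hg', MonoidHom.range_comp, MonoidHom.range_eq_top.2 e.surjective, ← MonoidHom.range_eq_map]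
  have hconj : ∀ x, g' (h⁻¹ * x * h) = g x := fun x => congrArg g (show h * (h⁻¹ * x * h) * h⁻¹ = x by group)
  -- the blocks
  have adj : ∀ (ι : Cfsg.SU 2 F 2 →* G), Function.Injective ι → ∀ (k : Fin 2 ↪ Fin 4) (t s : Cfsg.SU 4 F 2),
      g t = ι E.i → g s = ι E.j → h⁻¹ * t * h ∈ fixS F 2 (Finset.univ.map k) → h⁻¹ * s * h ∈ fixS F 2 (Finset.univ.map k) →
      ∃ γ : Cfsg.SU 2 F 2 ≃* Cfsg.SU 2 F 2, ∀ y, g' (emb hσ k (γ y)) = ι y := by
    intro ι hι k t s et es ht hs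
    have hmem : ∀ y, ι y ∈ (g'.comp (emb (q := 2) hσ k)).range := fun y =>
      gen_two hF hσ hc E.hω E.i0 E.i1 E.j0 E.j1 (H := ((g'.comp (emb (q := 2) hσ k)).range).comap ι)
        (Subgroup.mem_comap.2 (by
          obtain ⟨A, e⟩ := emb_surj hσ k ht
          exact ⟨A, by rw [MonoidHom.comp_apply, e, hconj, et]⟩))
        (Subgroup.mem_comap.2 (by
          obtain ⟨A, e⟩ := emb_surj hσ k hs
          exact ⟨A, by rw [MonoidHom.comp_apply, e, hconj, es]⟩)) y
    haveI : Finite (g'.comp (emb (q := 2) hσ k)).range := Finite.of_surjective _ (MonoidHom.rangeRestrict_surjective _)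
    have hr : (g'.comp (emb (q := 2) hσ k)).range = ι.range := by
      symm
      refine Subgroup.eq_of_le_of_card_ge (by rintro _ ⟨y, rfl⟩; exact hmem y) ?_
      rw [← Nat.card_congr (MonoidHom.ofInjective hι).toEquiv,
        ← Nat.card_congr (MonoidHom.ofInjective (f := g'.comp (emb (q := 2) hσ k)) (ig'.comp (emb_injective hσ k))).toEquiv]
    let e1 : Cfsg.SU 2 F 2 ≃* ι.range :=
      (MonoidHom.ofInjective (f := g'.comp (emb (q := 2) hσ k)) (ig'.comp (emb_injective hσ k))).trans (MulEquiv.subgroupCongr hr)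
    let e2 : Cfsg.SU 2 F 2 ≃* ι.range := MonoidHom.ofInjective hι
    exact ⟨e2.trans e1.symm, fun y => congrArg Subtype.val (e1.apply_symm_apply (e2 y))⟩
  have mA : (Finset.univ : Finset (Fin 2)).map (f01.trans fA) = ({0, 1} : Finset (Fin 4)) := by decide
  have mB : (Finset.univ : Finset (Fin 2)).map (f12.trans fA) = ({1, 2} : Finset (Fin 4)) := by decide
  have mC : (Finset.univ : Finset (Fin 2)).map (f12.trans fB) = ({2, 3} : Finset (Fin 4)) := by decide
  obtain ⟨γa, ha⟩ := adj (ψ.comp (upp hσ)) (upp_injective hσ P hF) (f01.trans fA) TA SA eTA eSA (mA ▸ hTA) (mA ▸ hSA)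
  obtain ⟨γb, hb⟩ := adj (ψ.comp (low hσ)) (low_injective hσ P hF) (f12.trans fA) TB SB eTB eSB (mB ▸ hTB) (mB ▸ hSB)
  obtain ⟨γc, hc4⟩ := adj (χ.comp (low hσ)) (low_injective hσ R hF) (f12.trans fB) TC SC eTC eSC (mC ▸ hTC) (mC ▸ hSC)
  have hAB : f01.trans fB = f12.trans fA := by ext i; fin_cases i <;> rfl
  set ψ4 := g'.comp (emb (q := 2) hσ fA) with hψ4
  set χ4 := g'.comp (emb (q := 2) hσ fB) with hχ4
  have iψ4 : Function.Injective ψ4 := ig'.comp (emb_injective hσ fA)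
  have iχ4 : Function.Injective χ4 := ig'.comp (emb_injective hσ fB)
  have a4 : ∀ y, ψ4 (upp hσ (γa y)) = ψ (upp hσ y) := fun y =>
    (congrArg g' (emb_trans hσ f01 fA (γa y))).trans (ha y)
  have b4 : ∀ y, ψ4 (low hσ (γb y)) = ψ (low hσ y) := fun y =>
    (congrArg g' (emb_trans hσ f12 fA (γb y))).trans (hb y)
  have b4' : ∀ y, χ4 (upp hσ (γb y)) = χ (upp hσ y) := fun y =>
    ((congrArg g' ((emb_trans hσ f01 fB (γb y)).trans (by rw [hAB]))).trans (hb y)).trans (hag y).symm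
  have c4 : ∀ y, χ4 (low hσ (γc y)) = χ (low hσ y) := fun y =>
    (congrArg g' (emb_trans hσ f12 fB (γc y))).trans (hc4 y)
  have rψ : ψ.range = ψ4.range := range_eq hF hσ hc iψ ig' (hrange.symm ▸ hψ) fA (k := 3) (by decide)
    (fun y => ⟨γa y, a4 y⟩) (fun y => ⟨γb y, b4 y⟩)
    (fun y => ⟨γa.symm y, (congrArg (fun t => ψ4 (upp hσ t)) (γa.apply_symm_apply y)).symm.trans (a4 _)⟩)
    (fun y => ⟨γb.symm y, (congrArg (fun t => ψ4 (low hσ t)) (γb.apply_symm_apply y)).symm.trans (b4 _)⟩)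
  have rχ : χ.range = χ4.range := range_eq hF hσ hc iχ ig' (hrange.symm ▸ hχ) fB (k := 0) (by decide)
    (fun y => ⟨γb y, b4' y⟩) (fun y => ⟨γc y, c4 y⟩)
    (fun y => ⟨γb.symm y, (congrArg (fun t => χ4 (upp hσ t)) (γb.apply_symm_apply y)).symm.trans (b4' _)⟩)
    (fun y => ⟨γc.symm y, (congrArg (fun t => χ4 (low hσ t)) (γc.apply_symm_apply y)).symm.trans (c4 _)⟩)
  have spec : ∀ (φ φ4 : Cfsg.SU 3 F 2 →* G) (γ δ : Cfsg.SU 2 F 2 ≃* Cfsg.SU 2 F 2), Function.Injective φ4 →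
      (∀ y, φ4 (upp hσ (γ y)) = φ (upp hσ y)) → (∀ y, φ4 (low hσ (δ y)) = φ (low hσ y)) → φ.range = φ4.range →
      ∀ {V A B : Subgroup G}, PairSpec hσ φ V A B → PairSpec hσ φ4 V A B := by
    intro φ φ4 γ δ hi h1 h2 hr V A B Q
    refine ⟨hr.symm.trans Q.range, ?_, ?_, ?_⟩
    · rw [← Q.upp_eq]
      refine le_antisymm ?_ ?_
      · rintro _ ⟨y, rfl⟩; obtain ⟨y, rfl⟩ := γ.surjective y; exact ⟨y, (h1 y).symm⟩
      · rintro _ ⟨y, rfl⟩; exact ⟨γ y, h1 y⟩
    · rw [← Q.low_eq]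
      refine le_antisymm ?_ ?_
      · rintro _ ⟨y, rfl⟩; obtain ⟨y, rfl⟩ := δ.surjective y; exact ⟨y, (h2 y).symm⟩
      · rintro _ ⟨y, rfl⟩; exact ⟨δ y, h2 y⟩
    · rw [(MonoidHom.ker_eq_bot_iff _).2 hi]; exact bot_le
  have P4 := spec ψ ψ4 γa γb iψ4 a4 b4 rψ P
  have R4 := spec χ χ4 γb γc iχ4 b4' c4 rχ R
  have Db : ∀ y : Cfsg.SU 2 F 2, y.1.1 0 1 = 0 → (γb y).1.1 0 1 = 0 := fun y hy =>
    diag_of_normalises_low hσ hc P4 hF fun x hx => by rw [b4]; exact diag_normalises hσ P hy hx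
  have Dc : ∀ y : Cfsg.SU 2 F 2, y.1.1 0 1 = 0 → (γc y).1.1 0 1 = 0 := fun y hy =>
    diag_of_normalises_low hσ hc R4 hF fun x hx => by rw [c4]; exact diag_normalises hσ R hy hx
  have Da : ∀ y : Cfsg.SU 2 F 2, y.1.1 0 1 = 0 → (γa y).1.1 0 1 = 0 := fun y hy => by
    obtain ⟨y1, y2⟩ := su2_row hσ y
    rw [hy, map_zero, neg_zero] at y2
    obtain ⟨i2, i3⟩ := su2_row hσ E.i
    rw [E.i1, map_zero, neg_zero] at i3
    have hrel : low hσ E.i * upp hσ y = upp hσ y * low hσ E.i := by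
      refine Subtype.ext (Subtype.ext ?_)
      show (low hσ E.i).1.1 * (upp hσ y).1.1 = (upp hσ y).1.1 * (low hσ E.i).1.1
      rw [low_entries, upp_entries]
      ext r s
      fin_cases r <;> fin_cases s <;> simp [Matrix.mul_apply, Fin.sum_univ_three, hy, y2, E.i1, i3, mul_comm]
    have h := congrArg ψ hrel
    rw [map_mul, map_mul, ← b4, ← a4, ← map_mul, ← map_mul] at h
    have e := congrFun (congrFun (congrArg (fun x : Cfsg.SU 3 F 2 => x.1.1) (iψ4 h)) 0) 1
    change ((low hσ (γb E.i)).1.1 * (upp hσ (γa y)).1.1) 0 1 =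
      ((upp hσ (γa y)).1.1 * (low hσ (γb E.i)).1.1) 0 1 at e
    rw [low_entries, upp_entries] at e
    simp [Matrix.mul_apply, Fin.sum_univ_three] at e
    obtain ⟨u1, u2⟩ := su2_row hσ (γb E.i)
    rw [Db _ E.i1, map_zero, neg_zero] at u2
    rcases mul_eq_zero.1 (show (γa y).1.1 0 1 * ((γb E.i).1.1 0 0 - 1) = 0 by linear_combination -e) with h' | h'
    · exact h'
    · exfalso
      have hi1 : γb E.i = 1 := Subtype.ext (Subtype.ext (Matrix.ext fun r s => by
        fin_cases r <;> fin_cases s <;> simp [sub_eq_zero.1 h', u1, u2, Db _ E.i1]))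
      exact E.i_ne hF hσ hc (γb.map_eq_one_iff.1 hi1)
  obtain ⟨τa, da, hda, fa⟩ := aut_classify hF hσ hc γa Da
  obtain ⟨τb, db, hdb, fb⟩ := aut_classify hF hσ hc γb Db
  obtain ⟨τc, dc, hdc, fc⟩ := aut_classify hF hσ hc γc Dc
  have hab : τa = τb := tau_eq hF hσ hc iψ4 E a4 b4 (fun h => by simp [h] at hda) (fun y => (fa y).2) fun y => (fb y).1
  have hbc : τb = τc := tau_eq hF hσ hc iχ4 E b4' c4 (fun h => by simp [h] at hdb) (fun y => (fb y).2) fun y => (fc y).1
  subst hab hbc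
  let w : Fin 4 → F := ![da, 1, σ db, σ db * σ dc]
  have he : ∀ i, w i * σ (w i) = 1 := fun i => by
    fin_cases i <;> simp [w, map_mul, hc.invol]
    · exact hda
    · linear_combination hdb
    · linear_combination (σ dc * dc) * hdb + hdc
  obtain ⟨Γ, iΓ, hΓ⟩ := Q3.exists_twist_vec hσ τa w he hc
  have hblock : ∀ (k : Fin 2 ↪ Fin 4) (γ : Cfsg.SU 2 F 2 ≃* Cfsg.SU 2 F 2) (d : F),
      (∀ y, (γ y).1.1 0 0 = τa (y.1.1 0 0) ∧ (γ y).1.1 0 1 = d * τa (y.1.1 0 1)) → w (k 0) * σ (w (k 1)) = d →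
        ∀ y, Γ (emb hσ k y) = emb hσ k (γ y) := by
    intro k γ d fγ hd y
    have hτσ : ∀ x, τa (σ x) = σ (τa x) := fun x => by rw [hσ, hσ, map_pow]
    refine Subtype.ext (Subtype.ext (Matrix.ext fun r s => ?_))
    rw [hΓ]
    by_cases h : (∃ i, r = k i) ∧ ∃ j, s = k j
    · obtain ⟨⟨i, rfl⟩, ⟨j, rfl⟩⟩ := h
      rw [emb_apply, emb_apply]
      obtain ⟨c1, c2⟩ := su2_row hσ (γ y)
      obtain ⟨y1, y2⟩ := su2_row hσ y
      rw [(fγ y).1] at c1
      rw [(fγ y).2, ← hd, map_mul, map_mul, hc.invol] at c2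
      fin_cases i <;> fin_cases j <;> simp [(fγ y).1, (fγ y).2, ← hd, c1, c2, y1, y2, hτσ]
      · linear_combination τa (y.1.1 0 0) * he (k 0)
      · ring
      · ring
      · linear_combination σ (τa (y.1.1 0 0)) * he (k 1)
    · rw [not_and_or, not_exists, not_exists] at h
      rw [emb_off hσ k y h, emb_off hσ k (γ y) h, Matrix.one_apply]
      split_ifs with hrs
      · subst hrs; rw [map_one, mul_one]; exact he r
      · simp
  have sA := hblock (f01.trans fA) γa da fa (by simp [w])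
  have sB := hblock (f12.trans fA) γb db fb (by
    rw [show (f12.trans fA) 0 = (1 : Fin 4) from rfl, show (f12.trans fA) 1 = (2 : Fin 4) from rfl]
    simp [w, hc.invol])
  have sC := hblock (f12.trans fB) γc dc fc (by
    rw [show (f12.trans fB) 0 = (2 : Fin 4) from rfl, show (f12.trans fB) 1 = (3 : Fin 4) from rfl]
    simp [w, map_mul, hc.invol]
    linear_combination dc * hdb)
  have keep : ∀ (f : Fin 3 ↪ Fin 4), ((g'.comp Γ).comp (emb (q := 2) hσ f)).range =
      (g'.comp (emb (q := 2) hσ f)).range := by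
    intro f
    have i1 : Function.Injective ((g'.comp Γ).comp (emb (q := 2) hσ f)) := (ig'.comp iΓ).comp (emb_injective hσ f)
    haveI : Finite (g'.comp (emb (q := 2) hσ f)).range := Finite.of_surjective _ (MonoidHom.rangeRestrict_surjective _)
    refine Subgroup.eq_of_le_of_card_ge ?_ ?_
    · rintro _ ⟨x, rfl⟩
      have hmem : Γ (emb hσ f x) ∈ fixS F 2 (Finset.univ.map f) := fun l hl => by
        funext m
        rw [act_col hσ, hΓ, ← act_col hσ, emb_mem hσ f x l hl]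
        by_cases hm : m = l
        · subst hm; simpa [ev] using he m
        · simp [ev, hm]
      obtain ⟨A, e⟩ := emb_surj hσ f hmem
      exact ⟨A, by simp only [MonoidHom.comp_apply]; rw [e]⟩
    · rw [← Nat.card_congr (MonoidHom.ofInjective i1).toEquiv,
        ← Nat.card_congr (MonoidHom.ofInjective (f := g'.comp (emb (q := 2) hσ f)) (ig'.comp (emb_injective hσ f))).toEquiv]
  refine ⟨g'.comp Γ, fun x => ?_, fun x => ?_⟩
  · refine DFunLike.congr_fun (embedding_eq hF hσ hc (f := (g'.comp Γ).comp (emb hσ fA)) (g := ψ)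
      ((ig'.comp iΓ).comp (emb_injective hσ fA)) iψ ((keep fA).trans rψ.symm) (fun y => ?_) fun y => ?_) x
    · show g' (Γ (emb hσ fA (emb hσ f01 y))) = _
      rw [emb_trans, sA, ha]; rfl
    · show g' (Γ (emb hσ fA (emb hσ f12 y))) = _
      rw [emb_trans, sB, hb]; rfl
  · refine DFunLike.congr_fun (embedding_eq hF hσ hc (f := (g'.comp Γ).comp (emb hσ fB)) (g := χ)
      ((ig'.comp iΓ).comp (emb_injective hσ fB)) iχ ((keep fB).trans rχ.symm) (fun y => ?_) fun y => ?_) x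
    · show g' (Γ (emb hσ fB (emb hσ f01 y))) = _
      rw [emb_trans, hAB, sB, hb, hag]; rfl
    · show g' (Γ (emb hσ fB (emb hσ f12 y))) = _
      rw [emb_trans, sC, hc4]; rfl

end CfsgLib.Phan.Q2
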